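import Mathlib

/-!
Which block structures have index prime to all primes below a given prime.
-/

set_option autoImplicit false

namespace Cfsg.Agent.HallSymShape

open Nat Finset

/-- The sum of the digits. -/
def ds (p n : ℕ) : ℕ := (p.digits n).sum

variable {p : ℕ}

theorem legendre (hp : p.Prime) (n : ℕ) : (p - 1) * (n !).factorization p + ds p n = n := by
  have := Fact.mk hp
  rw [Nat.factorization_def _ hp, sub_one_mul_padicValNat_factorial]
  exact Nat.sub_add_cancel (Nat.digit_sum_le p n)

theorem ds_add (hp : p.Prime) (a b : ℕ) : ds p (a + b) ≤ ds p a + ds p b := by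
  have h : (a !).factorization p + (b !).factorization p ≤ ((a + b)!).factorization p := by
    have := (Nat.factorization_le_iff_dvd (by positivity) (by positivity)).2 (Nat.factorial_mul_factorial_dvd_factorial_add a b) p
    rwa [Nat.factorization_mul (by positivity) (by positivity), Finsupp.add_apply] at this
  have := Nat.mul_le_mul_left (p - 1) h
  rw [mul_add] at this
  linarith [legendre hp a, legendre hp b, legendre hp (a + b)]

theorem not_dvd_choose (hp : p.Prime) {a b : ℕ} (h : ds p (a + b) = ds p a + ds p b) : ¬ p ∣ (a + b).choose a := by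
  intro hd
  have hC : (a + b).choose a ≠ 0 := Nat.choose_ne_zero (Nat.le_add_right a b)
  have e : ((a + b)!).factorization p
      = ((a + b).choose a).factorization p + (a !).factorization p + (b !).factorization p := by
    rw [← Nat.add_choose_mul_factorial_mul_factorial a b, Nat.choose_symm_add]
    have hab : (a + b).choose b ≠ 0 := by rwa [← Nat.choose_symm_add]
    rw [Nat.factorization_mul (mul_ne_zero hab (Nat.factorial_ne_zero a)) (Nat.factorial_ne_zero b), Finsupp.add_apply,
      Nat.factorization_mul hab (Nat.factorial_ne_zero a), Finsupp.add_apply]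
  have h1 := legendre hp (a + b)
  rw [e, mul_add, mul_add] at h1
  have h2 : (p - 1) * ((a + b).choose a).factorization p = 0 := by
    linarith [legendre hp a, legendre hp b]
  rcases Nat.mul_eq_zero.1 h2 with h3 | h3
  · have := hp.two_le
    omega
  · exact absurd (Nat.Prime.factorization_pos_of_dvd hp hC hd) (by omega)

theorem ds_cons (hp : p.Prime) (a : ℕ) : ds p a = a % p + ds p (a / p) := by
  rcases a.eq_zero_or_pos with rfl | ha
  · simp [ds]
  · rw [ds, Nat.digits_def' hp.one_lt ha, List.sum_cons, ds]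

theorem ds_shift (hp : p.Prime) (a : ℕ) : ds p (p * a) = ds p a := by
  rw [ds_cons hp, Nat.mul_mod_right, Nat.mul_div_cancel_left _ hp.pos, zero_add]

theorem ds_le (n : ℕ) : ds p n ≤ n := Nat.digit_sum_le p n

theorem ds_lt (hp : p.Prime) {k : ℕ} (hk : p ≤ k) : ds p k < k := by
  have h1 := ds_cons hp k
  have h2 : ds p (k / p) ≤ k / p := ds_le _
  have h3 : 1 ≤ k / p := (Nat.one_le_div_iff hp.pos).2 hk
  have h4 : 2 * (k / p) ≤ p * (k / p) := Nat.mul_le_mul_right _ hp.two_le
  have h5 := Nat.mod_add_div k p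
  omega

theorem ds_small (hp : p.Prime) {k : ℕ} (hk : k < p) : ds p k = k := by
  rw [ds_cons hp, Nat.mod_eq_of_lt hk, Nat.div_eq_of_lt hk]
  simp [ds]

theorem ds_mul (hp : p.Prime) (a b : ℕ) : ds p (a * b) ≤ ds p a * ds p b := by
  have hd : ∀ d, ds p (d * b) ≤ d * ds p b := fun d => by
    induction d with
    | zero => simp [ds]
    | succ d ih => rw [add_mul, add_mul, one_mul, one_mul]; exact (ds_add hp _ _).trans (by omega)
  induction a using Nat.strong_induction_on with
  | _ a ih =>
    rcases a.eq_zero_or_pos with rfl | ha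
    · simp [ds]
    have e : a * b = a % p * b + p * (a / p * b) := by rw [← mul_assoc, ← add_mul, Nat.mod_add_div]
    rw [e, ds_cons hp a, add_mul]
    refine (ds_add hp _ _).trans (Nat.add_le_add (hd _) ?_)
    rw [ds_shift hp]
    exact ih _ (Nat.div_lt_self ha hp.one_lt)

theorem ds_pos (hp : p.Prime) (c : ℕ) : 0 < c → 1 ≤ ds p c := by
  induction c using Nat.strong_induction_on with
  | _ c ih =>
    intro hc
    rw [ds_cons hp]
    rcases Nat.eq_zero_or_pos (c % p) with h | h
    · have := Nat.div_pos (Nat.le_of_dvd hc (Nat.dvd_of_mod_eq_zero h)) hp.pos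
      have := ih _ (Nat.div_lt_self hc hp.one_lt) this
      omega
    · omega

theorem ds_eq_one (hp : p.Prime) (c : ℕ) : ds p c = 1 → ∃ e, c = p ^ e := by
  induction c using Nat.strong_induction_on with
  | _ c ih =>
    intro h
    rcases c.eq_zero_or_pos with rfl | hc
    · simp [ds] at h
    have h1 := ds_cons hp c
    have h5 := Nat.mod_add_div c p
    rcases Nat.eq_zero_or_pos (c / p) with h2 | h2
    · have h4 : ds p (c / p) = 0 := by rw [h2]; simp [ds]
      rw [h2, mul_zero] at h5
      exact ⟨0, by rw [pow_zero]; omega⟩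
    · have := ds_pos hp _ h2
      obtain ⟨e, he⟩ := ih _ (Nat.div_lt_self hc hp.one_lt) (by omega)
      have hmod : c % p = 0 := by omega
      rw [hmod, zero_add, he] at h5
      exact ⟨e + 1, by rw [pow_succ']; exact h5.symm⟩

theorem no_carry : ∀ (K a b : ℕ), a < 2 ^ K → b < 2 ^ K → ds 2 (a + b) = ds 2 a + ds 2 b → a + b < 2 ^ K := by
  intro K
  induction K with
  | zero => intro a b ha hb _; simp at ha hb; subst ha; subst hb; simp
  | succ K ih =>
    intro a b ha hb h
    rw [pow_succ] at ha hb ⊢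
    have e := ds_cons Nat.prime_two (a + b)
    have ea := ds_cons Nat.prime_two a
    have eb := ds_cons Nat.prime_two b
    have hs := ds_add Nat.prime_two (a / 2) (b / 2)
    by_cases hc : a % 2 + b % 2 ≤ 1
    · have hdiv : (a + b) / 2 = a / 2 + b / 2 := by omega
      rw [hdiv] at e
      have := ih (a / 2) (b / 2) (by omega) (by omega) (by omega)
      omega
    · have hdiv : (a + b) / 2 = a / 2 + b / 2 + 1 := by omega
      rw [hdiv] at e
      have h1 := ds_add Nat.prime_two (a / 2 + b / 2) 1
      rw [ds_small Nat.prime_two (show 1 < 2 by omega)] at h1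
      omega

/-- Blocks of sizes in `S`, `k c` of size `c`, whose stabiliser has index prime to all primes below `r`. -/
structure Shape (n r : ℕ) (S : Finset ℕ) (k : ℕ → ℕ) : Prop where
  hr : r.Prime
  five : 5 ≤ r
  hrn : r ≤ n
  mem : ∀ c ∈ S, 1 ≤ c ∧ c < r ∧ 1 ≤ k c
  one : 1 ∈ S → k 1 ≤ 1
  sum : ∑ c ∈ S, k c * c = n
  val : ∀ p, p.Prime → p < r → (n !).factorization p ≤ ∑ c ∈ S, (k c * (c !).factorization p + ((k c)!).factorization p)

variable {n r : ℕ} {S : Finset ℕ} {k : ℕ → ℕ}

theorem sum_ds_le (hp : p.Prime) (T : Finset ℕ) : ds p (∑ c ∈ T, k c * c) ≤ ∑ c ∈ T, ds p (k c * c) :=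
  Finset.le_sum_of_subadditive (ds p) (by simp [ds]) (ds_add hp) T _

theorem Shape.key (h : Shape n r S k) (hp : p.Prime) (hpr : p < r) :
    (∀ T ⊆ S, ds p (∑ c ∈ T, k c * c) = ∑ c ∈ T, ds p (k c * c)) ∧
    ∀ c ∈ S, ds p (k c * c) + k c = k c * ds p c + ds p (k c) ∧
      ds p (k c) * ds p c + k c = k c * ds p c + ds p (k c) := by
  have h1 : ∑ c ∈ S, (k c * ds p c + ds p (k c)) ≤ ds p n + ∑ c ∈ S, k c := by
    have e : (p - 1) * (∑ c ∈ S, (k c * (c !).factorization p + ((k c)!).factorization p))
        + ∑ c ∈ S, (k c * ds p c + ds p (k c)) = n + ∑ c ∈ S, k c := by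
      rw [Finset.mul_sum, ← Finset.sum_add_distrib, ← h.sum, ← Finset.sum_add_distrib]
      refine Finset.sum_congr rfl fun c _ => ?_
      linear_combination k c * legendre hp c + legendre hp (k c)
    have := Nat.mul_le_mul_left (p - 1) (h.val p hp hpr)
    linarith [legendre hp n]
  have h2 : ∀ c ∈ S, ds p (k c * c) ≤ ds p (k c) * ds p c ∧
      ds p (k c) * ds p c + k c ≤ k c * ds p c + ds p (k c) := by
    intro c hc
    refine ⟨ds_mul hp _ _, ?_⟩
    have a1 : ds p (k c) ≤ k c := ds_le _
    have a2 := ds_pos hp c (h.mem c hc).1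
    nlinarith
  have h3 : ∀ c ∈ S, ds p (k c * c) + k c ≤ k c * ds p c + ds p (k c) := fun c hc =>
    (Nat.add_le_add_right (h2 c hc).1 _).trans (h2 c hc).2
  have h4 := sum_ds_le (k := k) hp S
  rw [h.sum] at h4
  have h5 : ∑ c ∈ S, (ds p (k c * c) + k c) = ∑ c ∈ S, (k c * ds p c + ds p (k c)) := by
    refine le_antisymm (Finset.sum_le_sum h3) (h1.trans ?_)
    rw [Finset.sum_add_distrib]
    omega
  refine ⟨fun T hT => ?_, fun c hc => ?_⟩
  · have a1 := sum_ds_le (k := k) hp T
    have a2 := sum_ds_le (k := k) hp (S \ T)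
    have a3 := ds_add hp (∑ c ∈ S \ T, k c * c) (∑ c ∈ T, k c * c)
    rw [Finset.sum_sdiff hT, h.sum] at a3
    have a4 := Finset.sum_sdiff hT (f := fun c => ds p (k c * c))
    rw [Finset.sum_add_distrib] at h5
    omega
  · have := (Finset.sum_eq_sum_iff_of_le h3).1 h5 c hc
    refine ⟨this, ?_⟩
    have := h2 c hc
    omega

theorem Shape.mult (h : Shape n r S k) {c : ℕ} (hc : c ∈ S) (hk : 2 ≤ k c) : k c = 2 ∧ ∃ e, c = 2 ^ (e + 1) := by
  have h5 := h.five
  have a2 := ((h.key Nat.prime_two (by omega)).2 c hc).2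
  have a3 := ((h.key Nat.prime_three (by omega)).2 c hc).2
  have b2 := ds_lt Nat.prime_two hk
  have e2 : ds 2 c = 1 := by
    have := ds_pos Nat.prime_two c (h.mem c hc).1
    nlinarith
  obtain ⟨e, rfl⟩ := ds_eq_one Nat.prime_two c e2
  cases e with
  | zero =>
    rw [pow_zero] at hc hk
    have := h.one hc
    omega
  | succ e =>
    refine ⟨?_, e, rfl⟩
    by_contra hne
    have b3 := ds_lt Nat.prime_three (show 3 ≤ k (2 ^ (e + 1)) by omega)
    have e3 : ds 3 (2 ^ (e + 1)) = 1 := by
      have := ds_pos Nat.prime_three _ (h.mem _ hc).1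
      nlinarith
    obtain ⟨f, hf⟩ := ds_eq_one Nat.prime_three _ e3
    have h1 : (2 : ℕ) ∣ 3 ^ f := hf ▸ dvd_pow_self 2 (by omega)
    exact absurd (Nat.prime_two.dvd_of_dvd_pow h1) (by norm_num)

theorem Shape.split (h : Shape n r S k) (hp : p.Prime) (hpr : p < r) {T : Finset ℕ} (hT : T ⊆ S) {c : ℕ} (hc : c ∈ T) :
    ds p (∑ d ∈ T, k d * d) = ds p (k c * c) + ds p (∑ d ∈ T.erase c, k d * d) := by
  rw [(h.key hp hpr).1 T hT, (h.key hp hpr).1 _ ((Finset.erase_subset c T).trans hT),
    Finset.add_sum_erase T (fun d => ds p (k d * d)) hc]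

/-- No number below `r` divides a number prime to all primes below `r`. -/
theorem dvd_of_smooth {d C X : ℕ} (hC : ∀ q : ℕ, q.Prime → q ∣ d → ¬ q ∣ C) (h : d ∣ C * X) : d ∣ X :=
  (Nat.coprime_of_dvd fun q hq h1 h2 => hC q hq h1 h2).dvd_of_dvd_mul_left h

theorem Shape.pair (h : Shape n r S k) {c : ℕ} (hc : c ∈ S) (hk : k c = 2) : c + 1 = r := by
  obtain ⟨-, e, rfl⟩ := h.mult hc (by omega)
  have hcr := (h.mem _ hc).2.1
  by_contra hne
  have hfree : ∀ q : ℕ, q.Prime → q ≠ 2 → q < r → ¬ q ∣ (2 ^ (e + 1) + 2 ^ (e + 1)).choose (2 ^ (e + 1)) := by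
    intro q hq hq2 hqr
    refine not_dvd_choose hq ?_
    have := ((h.key hq hqr).2 _ hc).1
    rw [hk, ds_small hq (show 2 < q by have := hq.two_le; omega), two_mul] at this
    omega
  generalize hcc : 2 ^ (e + 1) = c at *
  have hc2 : 2 ∣ c := hcc ▸ dvd_pow_self 2 (by omega)
  have hid := Nat.choose_succ_right_eq (c + c) c
  rw [Nat.add_sub_cancel] at hid
  have h1 : c + 1 ∣ c := by
    refine dvd_of_smooth (C := (c + c).choose c) (fun q hq hd => hfree q hq ?_ ?_) ⟨_, by rw [← hid, mul_comm]⟩
    · rintro rfl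
      omega
    · have := Nat.le_of_dvd (by omega) hd
      omega
  have := Nat.le_of_dvd (h.mem _ hc).1 h1
  omega

/-- The possible shapes. -/
theorem Shape.classify (h : Shape n r S k) :
    (∃ R, R < r - 1 ∧ 0 < R ∧ n = r - 1 + R ∧ S = {r - 1, R} ∧ k (r - 1) = 1 ∧ k R = 1 ∧
      ∀ q : ℕ, q.Prime → q < r → ¬ q ∣ n.choose R) ∨ (n = 8 ∧ r = 5 ∧ S = {4} ∧ k 4 = 2) := by
  have hr5 := h.five
  have hrn := h.hrn
  set K := Nat.log 2 n
  have hK1 : 2 ^ K ≤ n := Nat.pow_log_le_self 2 (by omega)
  have hK2 : n < 2 ^ (K + 1) := Nat.lt_pow_succ_log_self (by omega) n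
  obtain ⟨c, hc, htop⟩ : ∃ c ∈ S, 2 ^ K ≤ k c * c := by
    by_contra hall
    push Not at hall
    have : ∀ T : Finset ℕ, T ⊆ S → ∑ d ∈ T, k d * d < 2 ^ K := by
      intro T
      induction T using Finset.induction_on with
      | empty => intro _; simp
      | insert c T hcT ih =>
        intro hT
        have hTS : T ⊆ S := (Finset.subset_insert c T).trans hT
        have e := h.split Nat.prime_two (show 2 < r by omega) hT (Finset.mem_insert_self c T)
        rw [Finset.erase_insert hcT, Finset.sum_insert hcT] at e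
        rw [Finset.sum_insert hcT]
        exact no_carry K _ _ (hall c (hT (Finset.mem_insert_self c T))) (ih hTS) e
    have := this S subset_rfl
    rw [h.sum] at this
    omega
  obtain ⟨hc1, hcr, hkc⟩ := h.mem c hc
  set R := ∑ d ∈ S.erase c, k d * d with hR
  have hn : n = k c * c + R := h.sum.symm.trans (Finset.add_sum_erase S (fun x => k x * x) hc).symm
  rw [pow_succ] at hK2
  have hRlt : R < k c * c := by omega
  have hfree : ∀ q : ℕ, q.Prime → q < r → ¬ q ∣ n.choose R := by
    intro q hq hqr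
    rw [hn, add_comm (k c * c)]
    refine not_dvd_choose hq ?_
    have e := h.split hq hqr subset_rfl hc
    rw [h.sum, ← hR] at e
    rw [add_comm R, ← hn, e, add_comm]
  have hid : 0 < R → k c * c + 1 ∣ n.choose R * R := fun hR0 => by
    have := Nat.choose_succ_right_eq n (R - 1)
    rw [show R - 1 + 1 = R by omega, show n - (R - 1) = k c * c + 1 by omega] at this
    exact ⟨_, by rw [this, mul_comm]⟩
  rcases (show k c = 1 ∨ 2 ≤ k c by omega) with hk | hk
  · -- a single block carries the top bit
    left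
    rw [hk, one_mul] at hn hRlt hid
    have hR0 : 0 < R := by omega
    have hcr1 : c + 1 = r := by
      by_contra hne
      have := Nat.le_of_dvd hR0 (dvd_of_smooth (fun q hq hd => hfree q hq (by
        have := Nat.le_of_dvd (by omega) hd
        omega)) (hid hR0))
      omega
    obtain ⟨d, hd⟩ : (S.erase c).Nonempty := by
      by_contra he
      rw [Finset.not_nonempty_iff_eq_empty] at he
      rw [he] at hR
      simp at hR
      omega
    have hdS := Finset.mem_of_mem_erase hd
    obtain ⟨hd1, hdr, hkd⟩ := h.mem d hdS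
    set b := ∑ x ∈ (S.erase c).erase d, k x * x with hb
    have hab : R = k d * d + b := (Finset.add_sum_erase _ (fun x => k x * x) hd).symm
    have h1 : (k d * d + b).choose (k d * d) = 1 := by
      by_contra hne
      obtain ⟨q, hq, hqd⟩ := Nat.exists_prime_and_dvd hne
      have hqR : q ≤ k d * d + b := by
        have : q ∣ (k d * d + b)! := hqd.trans (Dvd.intro _ (by
          rw [← mul_assoc]
          exact Nat.choose_mul_factorial_mul_factorial (Nat.le_add_right _ _)))
        exact (Nat.Prime.dvd_factorial hq).1 this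
      have hqr : q < r := by omega
      refine not_dvd_choose hq ?_ hqd
      have e := h.split hq hqr (Finset.erase_subset c S) hd
      rw [← hb, ← hR, hab] at e
      exact e
    have hb0 : b = 0 := by
      rcases Nat.choose_eq_one_iff.1 h1 with h2 | h2
      · have : 0 < k d * d := Nat.mul_pos hkd hd1
        omega
      · omega
    have hk1 : k d = 1 := by
      by_contra hne
      obtain ⟨h2, -⟩ := h.mult hdS (by omega)
      have := h.pair hdS h2
      rw [h2] at hab
      omega
    have he : S.erase c = {d} := by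
      refine Finset.eq_singleton_iff_unique_mem.2 ⟨hd, fun x hx => ?_⟩
      by_contra hne
      have hx' : x ∈ (S.erase c).erase d := Finset.mem_erase.2 ⟨hne, hx⟩
      obtain ⟨hx1, -, hkx⟩ := h.mem x (Finset.mem_of_mem_erase hx)
      have := Finset.single_le_sum (f := fun x => k x * x) (fun _ _ => Nat.zero_le _) hx'
      have : 0 < k x * x := Nat.mul_pos hkx hx1
      omega
    refine ⟨R, by omega, hR0, by omega, ?_, ?_, ?_, hfree⟩
    · rw [← Finset.insert_erase hc, he, show r - 1 = c by omega, show R = d by rw [hab, hk1, hb0]; omega]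
    · rw [show r - 1 = c by omega, hk]
    · rw [show R = d by rw [hab, hk1, hb0]; omega, hk1]
  · -- a pair of blocks
    right
    obtain ⟨hk2, e, hce⟩ := h.mult hc hk
    have hcr1 := h.pair hc hk2
    rw [hk2] at hn hRlt hid htop
    have hc2 : 2 ∣ c := hce ▸ dvd_pow_self 2 (by omega)
    have hc3 : ¬ 3 ∣ c := fun h3 => by
      rw [hce] at h3
      exact absurd (Nat.prime_three.dvd_of_dvd_pow h3) (by norm_num)
    have hR0 : R = 0 := by
      by_contra hne
      obtain ⟨q, hq, hqd, hqr⟩ : ∃ q : ℕ, q.Prime ∧ q ∣ 2 * c + 1 ∧ r ≤ q := by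
        by_contra hall
        push Not at hall
        have := Nat.le_of_dvd (by omega) (dvd_of_smooth (fun q hq hd => hfree q hq (hall q hq hd)) (hid (by omega)))
        omega
      obtain ⟨t, ht⟩ := hqd
      have ht3 : t = 1 := by
        rcases t with _ | _ | _ | t <;> try omega
        · nlinarith
      subst ht3
      rw [mul_one] at ht
      subst ht
      rcases (show c % 3 = 1 ∨ c % 3 = 2 by omega) with h3 | h3
      · have := (Nat.prime_dvd_prime_iff_eq Nat.prime_three hq).1 (by omega)
        omega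
      · have := (Nat.prime_dvd_prime_iff_eq Nat.prime_three h.hr).1 (by omega)
        omega
    have hS : S = {c} := by
      refine Finset.eq_singleton_iff_unique_mem.2 ⟨hc, fun x hx => ?_⟩
      by_contra hne
      obtain ⟨hx1, -, hkx⟩ := h.mem x hx
      have := Finset.single_le_sum (f := fun x => k x * x) (fun _ _ => Nat.zero_le _) (Finset.mem_erase.2 ⟨hne, hx⟩)
      have : 0 < k x * x := Nat.mul_pos hkx hx1
      omega
    suffices hc4 : c = 4 by
      subst hc4
      exact ⟨by omega, by omega, hS, hk2⟩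
    have hC : ∀ q : ℕ, q.Prime → q ≠ 2 → q < r → ¬ q ∣ (c + c).choose c := by
      intro q hq hq2 hqr
      refine not_dvd_choose hq ?_
      have := ((h.key hq hqr).2 _ hc).1
      rw [hk2, ds_small hq (show 2 < q by have := hq.two_le; omega), two_mul] at this
      omega
    obtain ⟨d, hd⟩ : ∃ d, c = 2 * d + 2 := ⟨(c - 2) / 2, by omega⟩
    have hd1 : 1 ≤ d := by omega
    have hde : ¬ 2 ∣ d + 2 := by
      intro h2
      have : 4 ∣ c := by
        rcases e with _ | e
        · simp at hce; omega
        · exact hce ▸ ⟨2 ^ e, by ring⟩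
      omega
    have i1 := Nat.choose_succ_right_eq (c + c) (2 * d + 1)
    have i2 := Nat.choose_succ_right_eq (c + c) (2 * d)
    rw [show 2 * d + 1 + 1 = c by omega, show c + c - (2 * d + 1) = c + 1 by omega] at i1
    rw [show c + c - 2 * d = 2 * (d + 2) by omega] at i2
    have h1 : d + 2 ∣ c * (2 * d + 1) := by
      refine dvd_of_smooth (C := (c + c).choose c) (fun q hq hdd => hC q hq ?_ ?_)
        ⟨2 * (c + 1) * (c + c).choose (2 * d), ?_⟩
      · rintro rfl
        exact hde hdd
      · have := Nat.le_of_dvd (by omega) hdd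
        omega
      · linear_combination (2 * d + 1) * i1 + (c + 1) * i2
    have h6 : d + 2 ∣ 6 := by
      rw [hd] at h1
      have e1 : (2 * d + 2) * (2 * d + 1) + 2 * (d + 2) = (d + 2) * (4 * d) + 6 := by ring
      have h2 : d + 2 ∣ (d + 2) * (4 * d) + 6 := e1 ▸ dvd_add h1 (dvd_mul_left _ _)
      exact (Nat.dvd_add_right (dvd_mul_right _ _)).1 h2
    have := Nat.le_of_dvd (by norm_num) h6
    have : d ≤ 4 := by omega
    interval_cases d <;> omega

/-- When the two blocks differ by one the degree is seven. -/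
theorem diff_one {R : ℕ} (hr : r.Prime) (hr5 : 5 ≤ r) (hR : R + 2 = r)
    (hfree : ∀ q : ℕ, q.Prime → q < r → ¬ q ∣ (r - 1 + R).choose R) : r = 5 := by
  obtain ⟨s, rfl⟩ : ∃ s, R = s + 2 := ⟨R - 2, by omega⟩
  set N := r - 1 + (s + 2)
  have i1 := Nat.choose_succ_right_eq N (s + 1)
  have i2 := Nat.choose_succ_right_eq N s
  rw [show N - (s + 1) = r by omega] at i1
  rw [show N - s = r + 1 by omega] at i2
  have h2r : 2 ∣ r + 1 := by
    have := hr.eq_two_or_odd
    omega
  have h1 : r + 1 ∣ (s + 2) * (s + 1) := by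
    refine dvd_of_smooth (C := N.choose (s + 1 + 1)) (fun q hq hd => hfree q hq ?_) ⟨r * N.choose s, ?_⟩
    · have hne : q ≠ r + 1 := by
        rintro rfl
        have := (Nat.prime_dvd_prime_iff_eq Nat.prime_two hq).1 h2r
        omega
      have hne' : q ≠ r := by
        rintro rfl
        have := (Nat.dvd_add_right dvd_rfl).1 hd
        exact hq.one_lt.ne' (Nat.dvd_one.1 this)
      have := Nat.le_of_dvd (by omega) hd
      omega
    · linear_combination (s + 1) * i1 + r * i2
  have h12 : r + 1 ∣ 12 := by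
    obtain ⟨t, ht⟩ := h1
    have e : (s + 2) * (s + 1) + 7 * (r + 1) = (r + 1) * (r + 1) + 12 := by rw [← hR]; ring
    have hd : r + 1 ∣ (s + 2) * (s + 1) + 7 * (r + 1) := dvd_add ⟨t, ht⟩ (dvd_mul_left _ _)
    exact (Nat.dvd_add_right (dvd_mul_right _ _)).1 (e ▸ hd)
  have := Nat.le_of_dvd (by norm_num) h12
  by_contra hne
  rcases (show r = 6 ∨ r = 7 ∨ r = 8 ∨ r = 9 ∨ r = 10 ∨ r = 11 by omega) with h | h | h | h | h | h
  all_goals first | (subst h; norm_num at hr; done) | (subst h; omega) | skip
  subst h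
  obtain rfl : s = 7 := by omega
  exact hfree 2 Nat.prime_two (by norm_num) (by decide)

end Cfsg.Agent.HallSymShape
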