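import Cfsg.Agent.AltHall.Basic

/-!
A Hall subgroup of a symmetric group for two or more primes has even order.
-/

set_option autoImplicit false

namespace Cfsg.Agent.HallSymShape

open Equiv Equiv.Perm

variable {α : Type*} [Fintype α] [DecidableEq α]

theorem exists_cycle_of_finset {V : Finset α} (h : 2 ≤ V.card) : ∃ c : Perm α, c.IsCycle ∧ c.support = V := by
  refine ⟨V.toList.formPerm, List.isCycle_formPerm V.nodup_toList (by rwa [Finset.length_toList]), ?_⟩
  rw [List.support_formPerm_of_nodup _ V.nodup_toList, Finset.toList_toFinset]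
  intro x hx
  have := congrArg List.length hx
  rw [Finset.length_toList, List.length_singleton] at this
  omega

theorem exists_cycle_group {p : ℕ} (hp : p.Prime) : ∀ k : ℕ, p * k ≤ Fintype.card α →
    ∃ (U : Finset α) (P : Subgroup (Perm α)), U.card = p * k ∧ IsPGroup p P ∧ (∀ g ∈ P, ∀ x ∉ U, g x = x) ∧
      ∀ x ∈ U, ∃ g ∈ P, g.IsCycle ∧ g.support.card = p ∧ g x ≠ x := by
  intro k
  induction k with
  | zero => exact fun _ => ⟨∅, ⊥, by simp, IsPGroup.of_bot, fun g hg x _ => by rw [Subgroup.mem_bot.1 hg]; rfl, by simp⟩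
  | succ k ih =>
    intro hk
    rw [mul_add, mul_one] at hk
    obtain ⟨U, P, hU, hP, hfix, hmov⟩ := ih (by omega)
    obtain ⟨V, hV, hVc⟩ := Finset.exists_subset_card_eq (s := Uᶜ) (n := p) (by rw [Finset.card_compl]; omega)
    obtain ⟨c, hc, hcs⟩ := exists_cycle_of_finset (V := V) (by rw [hVc]; exact hp.two_le)
    have hdisj : Disjoint U V := Finset.disjoint_right.2 fun x hx => Finset.mem_compl.1 (hV hx)
    have hcomm : ∀ g ∈ P, Commute g c := fun g hg => Equiv.Perm.Disjoint.commute fun x => by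
      by_cases hx : x ∈ U
      · exact Or.inr (Equiv.Perm.notMem_support.1 (hcs ▸ Finset.disjoint_left.1 hdisj hx))
      · exact Or.inl (hfix g hg x hx)
    have hn : P ≤ Subgroup.normalizer (Subgroup.zpowers c : Set (Perm α)) := fun g hg => by
      have hcz : ∀ x ∈ Subgroup.zpowers c, Commute g x := by
        rintro _ ⟨i, rfl⟩
        exact (hcomm g hg).zpow_right i
      rw [Subgroup.mem_normalizer_iff]
      intro x
      constructor
      · intro hx
        rw [(hcz x hx).eq, mul_inv_cancel_right]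
        exact hx
      · intro hx
        have e := (hcz _ hx).eq
        rw [show g * x * g⁻¹ = x by
          have : g * (g * x * g⁻¹) = g * x := by rw [e, inv_mul_cancel_right]
          exact mul_left_cancel this] at hx
        exact hx
    have hcard : Nat.card (Subgroup.zpowers c) = p ^ 1 := by
      rw [Nat.card_zpowers, hc.orderOf, hcs, hVc, pow_one]
    refine ⟨U ∪ V, P ⊔ Subgroup.zpowers c, ?_, hP.to_sup_of_normal_right' (IsPGroup.of_card hcard) hn, ?_, ?_⟩
    · rw [Finset.card_union_of_disjoint hdisj, hU, hVc, mul_add, mul_one]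
    · intro g hg x hx
      simp only [Finset.mem_union, not_or] at hx
      have hle : P ⊔ Subgroup.zpowers c ≤ MulAction.stabilizer (Perm α) x :=
        sup_le (fun h hh => hfix h hh x hx.1)
          (Subgroup.zpowers_le.2 (Equiv.Perm.notMem_support.1 (hcs ▸ hx.2)))
      exact hle hg
    · intro x hx
      rcases Finset.mem_union.1 hx with hx | hx
      · obtain ⟨g, hg, h1⟩ := hmov x hx
        exact ⟨g, Subgroup.mem_sup_left hg, h1⟩
      · exact ⟨c, Subgroup.mem_sup_right (Subgroup.mem_zpowers c), hc, hcs ▸ hVc, Equiv.Perm.mem_support.1 (hcs ▸ hx)⟩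

open Classical in
/-- Most points are moved by cycles of prime length in a subgroup of index prime to that prime. -/
theorem cover {p : ℕ} [Fact p.Prime] {H : Subgroup (Perm α)} (hH : ¬ p ∣ H.index) :
    ∃ U : Finset α, U.card = p * (Fintype.card α / p) ∧ ∀ x ∈ U, ∃ g ∈ H, g.IsCycle ∧ g.support.card = p ∧ g x ≠ x := by
  obtain ⟨U, P, hU, hP, -, hmov⟩ := exists_cycle_group (α := α) (Fact.out : p.Prime) (Fintype.card α / p) (Nat.mul_div_le _ p)
  obtain ⟨g, hg⟩ := AltHall.exists_conj_mem hH hP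
  refine ⟨U.image g, by rw [Finset.card_image_of_injective _ g.injective, hU], ?_⟩
  intro y hy
  obtain ⟨x, hx, rfl⟩ := Finset.mem_image.1 hy
  obtain ⟨c, hc, h1, h2, h3⟩ := hmov x hx
  refine ⟨g * c * g⁻¹, hg c hc, h1.conj, by rw [Equiv.Perm.support_conj, Finset.card_map, h2], ?_⟩
  simpa [Equiv.Perm.mul_apply] using h3

variable {K : Subgroup (Perm α)} {Δ : Finset α}

/-- The subgroup is transitive on `Γ` by elements fixing the rest of `Δ`. -/
def FixTrans (K : Subgroup (Perm α)) (Δ Γ : Finset α) : Prop :=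
  ∀ x ∈ Γ, ∀ y ∈ Γ, ∃ g ∈ K, (∀ z ∈ Δ, z ∉ Γ → g z = z) ∧ g x = y

theorem FixTrans.union {Γ : Finset α} (h : FixTrans K Δ Γ) {g : Perm α} (hg : g ∈ K)
    (hinv : ∀ g ∈ K, ∀ x ∈ Δ, g x ∈ Δ) {c : α} (hc : c ∈ Γ) (hc' : c ∈ Γ.image g) :
    FixTrans K Δ (Γ ∪ Γ.image g) := by
  have toBase : ∀ x ∈ Γ ∪ Γ.image g, ∃ u ∈ K, (∀ z ∈ Δ, z ∉ Γ ∪ Γ.image g → u z = z) ∧ u x = c := by
    intro x hx
    rcases Finset.mem_union.1 hx with hx | hx
    · obtain ⟨u, hu, h1, h2⟩ := h x hx c hc
      exact ⟨u, hu, fun z hz hz' => h1 z hz fun e => hz' (Finset.mem_union_left _ e), h2⟩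
    · obtain ⟨x', hx', rfl⟩ := Finset.mem_image.1 hx
      obtain ⟨c', hc'', rfl⟩ := Finset.mem_image.1 hc'
      obtain ⟨u, hu, h1, h2⟩ := h x' hx' c' hc''
      refine ⟨g * u * g⁻¹, mul_mem (mul_mem hg hu) (inv_mem hg), fun z hz hz' => ?_, by simp [h2]⟩
      have := h1 (g⁻¹ z) (hinv _ (inv_mem hg) z hz) fun e =>
        hz' (Finset.mem_union_right _ (Finset.mem_image.2 ⟨_, e, by simp⟩))
      rw [Equiv.Perm.mul_apply, Equiv.Perm.mul_apply, this]
      simp
  intro x hx y hy
  obtain ⟨u, hu, h1, h2⟩ := toBase x hx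
  obtain ⟨v, hv, h3, h4⟩ := toBase y hy
  refine ⟨v⁻¹ * u, mul_mem (inv_mem hv) hu, fun z hz hz' => ?_, ?_⟩
  · rw [Equiv.Perm.mul_apply, h1 z hz hz', Equiv.Perm.inv_eq_iff_eq, h3 z hz hz']
  · rw [Equiv.Perm.mul_apply, h2, Equiv.Perm.inv_eq_iff_eq, h4]

/-- Jordan's theorem on primitive groups, in the form needed. -/
theorem two_transitive (hinv : ∀ g ∈ K, ∀ x ∈ Δ, g x ∈ Δ)
    (prim : ∀ B ⊆ Δ, 2 ≤ B.card → B ≠ Δ → ∃ g ∈ K, ¬ Disjoint (B.image g) B ∧ B.image g ≠ B) :
    ∀ (m : ℕ) (Γ : Finset α), Γ ⊆ Δ → (Δ \ Γ).card = m → 2 ≤ Γ.card → Γ ≠ Δ → FixTrans K Δ Γ →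
      ∃ z ∈ Δ, FixTrans K Δ (Δ.erase z) := by
  intro m
  induction m using Nat.strong_induction_on with
  | _ m ih =>
    intro Γ hΓ hm h2 hne htr
    have hF : (Δ \ Γ).Nonempty := by
      rw [Finset.sdiff_nonempty]
      exact fun h => hne (Finset.Subset.antisymm hΓ h)
    by_cases hm1 : m = 1
    · obtain ⟨z, hz⟩ := Finset.card_eq_one.1 (hm.trans hm1)
      have hz' := Finset.mem_sdiff.1 (hz ▸ Finset.mem_singleton_self z : z ∈ Δ \ Γ)
      refine ⟨z, hz'.1, ?_⟩
      have : Δ.erase z = Γ := by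
        ext x
        rw [Finset.mem_erase]
        constructor
        · rintro ⟨h1, h3⟩
          by_contra h4
          exact h1 (Finset.mem_singleton.1 (hz ▸ Finset.mem_sdiff.2 ⟨h3, h4⟩))
        · exact fun h => ⟨fun e => hz'.2 (e ▸ h), hΓ h⟩
      rwa [this]
    suffices ∃ g ∈ K, ∃ c ∈ Γ, c ∈ Γ.image g ∧ Γ.image g ≠ Γ ∧ Γ ∪ Γ.image g ≠ Δ by
      obtain ⟨g, hg, c, hc, hc', hg1, hg2⟩ := this
      have hsub : Γ ∪ Γ.image g ⊆ Δ := Finset.union_subset hΓ (Finset.image_subset_iff.2 fun x hx => hinv g hg x (hΓ hx))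
      have hlt : Γ.card < (Γ ∪ Γ.image g).card := by
        refine Finset.card_lt_card (Finset.ssubset_iff_subset_ne.2 ⟨Finset.subset_union_left, fun e => hg1 ?_⟩)
        refine Finset.eq_of_subset_of_card_le ?_ (Finset.card_image_of_injective Γ g.injective).ge
        exact fun x hx => e ▸ Finset.mem_union_right _ hx
      refine ih _ ?_ _ hsub rfl (by omega) hg2 (htr.union hg hinv hc hc')
      rw [← hm, Finset.card_sdiff_of_subset hsub, Finset.card_sdiff_of_subset hΓ]
      have := Finset.card_le_card hsub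
      omega
    have hmd : m + Γ.card = Δ.card := by rw [← hm, Finset.card_sdiff_add_card_eq_card hΓ]
    have hm0 : 0 < m := hm ▸ hF.card_pos
    by_cases hbig : m < Γ.card
    · obtain ⟨g, hg, hg1, hg2⟩ := prim (Δ \ Γ) Finset.sdiff_subset (by omega) (fun e => by
        rw [e] at hm; omega)
      obtain ⟨z, hz1, hz2⟩ := Finset.not_disjoint_iff.1 hg1
      obtain ⟨c, hc1, hc2⟩ : ∃ c ∈ Γ, c ∈ Γ.image g := by
        by_contra hall
        push Not at hall
        have h1 : Γ.image g ⊆ Δ \ Γ := fun x hx => Finset.mem_sdiff.2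
          ⟨by obtain ⟨y, hy, rfl⟩ := Finset.mem_image.1 hx; exact hinv g hg y (hΓ hy), fun h => hall x h hx⟩
        have := Finset.card_le_card h1
        rw [Finset.card_image_of_injective _ g.injective] at this
        omega
      refine ⟨g, hg, c, hc1, hc2, fun e => hg2 ?_, fun e => ?_⟩
      · refine Finset.eq_of_subset_of_card_le (fun x hx => ?_) (Finset.card_image_of_injective _ g.injective).ge
        obtain ⟨y, hy, rfl⟩ := Finset.mem_image.1 hx
        rw [Finset.mem_sdiff] at hy ⊢
        refine ⟨hinv g hg y hy.1, fun h => hy.2 ?_⟩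
        rw [← e] at h
        obtain ⟨w, hw, hwe⟩ := Finset.mem_image.1 h
        exact g.injective hwe ▸ hw
      · have hz3 : z ∈ Γ ∪ Γ.image g := e.symm ▸ (Finset.mem_sdiff.1 hz2).1
        rcases Finset.mem_union.1 hz3 with h | h
        · exact (Finset.mem_sdiff.1 hz2).2 h
        · obtain ⟨w, hw, rfl⟩ := Finset.mem_image.1 h
          obtain ⟨w', hw', hwe⟩ := Finset.mem_image.1 hz1
          exact (Finset.mem_sdiff.1 (g.injective hwe ▸ hw')).2 hw
    · obtain ⟨g, hg, hg1, hg2⟩ := prim Γ hΓ h2 hne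
      obtain ⟨c, hc1, hc2⟩ := Finset.not_disjoint_iff.1 hg1
      refine ⟨g, hg, c, hc2, hc1, hg2, fun e => ?_⟩
      have h1 := Finset.card_union_add_card_inter Γ (Γ.image g)
      rw [e, Finset.card_image_of_injective _ g.injective] at h1
      have : 0 < (Γ ∩ Γ.image g).card := Finset.card_pos.2 ⟨c, Finset.mem_inter.2 ⟨hc2, hc1⟩⟩
      omega

theorem two_dvd_of_cycles {H : Subgroup (Perm α)} {a b : Perm α} {p q : ℕ} (ha : a ∈ H) (hb : b ∈ H)
    (hac : a.IsCycle) (hbc : b.IsCycle) (hap : a.support.card = p) (hbq : b.support.card = q) (hq : q.Prime)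
    (hp : 2 ≤ p) (hpq : p < q) {x₀ : α} (hxa : a x₀ ≠ x₀) (hxb : b x₀ ≠ x₀) : 2 ∣ Nat.card H := by
  set Δ := a.support ∪ b.support with hΔ
  set K := Subgroup.closure ({a, b} : Set (Perm α)) with hK
  have hKH : K ≤ H := (Subgroup.closure_le _).2 (by
    rintro g (rfl | rfl) <;> assumption)
  have haK : a ∈ K := Subgroup.subset_closure (by simp)
  have hbK : b ∈ K := Subgroup.subset_closure (by simp)
  have hfix : ∀ g ∈ K, ∀ x ∉ Δ, g x = x := by
    intro g hg x hx
    simp only [hΔ, Finset.mem_union, not_or, Equiv.Perm.notMem_support] at hx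
    have hle : K ≤ MulAction.stabilizer (Perm α) x := (Subgroup.closure_le _).2 (by
      rintro g (rfl | rfl)
      · exact hx.1
      · exact hx.2)
    exact hle hg
  have hinv : ∀ g ∈ K, ∀ x ∈ Δ, g x ∈ Δ := by
    intro g hg x hx
    by_contra h
    exact h (by rw [g.injective (hfix g hg _ h)]; exact hx)
  have toBase : ∀ x ∈ Δ, ∃ g ∈ K, g x = x₀ := by
    intro x hx
    rcases Finset.mem_union.1 hx with hx | hx
    · obtain ⟨i, hi⟩ := hac.sameCycle (Equiv.Perm.mem_support.1 hx) hxa
      exact ⟨a ^ i, zpow_mem haK i, hi⟩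
    · obtain ⟨i, hi⟩ := hbc.sameCycle (Equiv.Perm.mem_support.1 hx) hxb
      exact ⟨b ^ i, zpow_mem hbK i, hi⟩
  have htrans : ∀ x ∈ Δ, ∀ y ∈ Δ, ∃ g ∈ K, g x = y := by
    intro x hx y hy
    obtain ⟨u, hu, h1⟩ := toBase x hx
    obtain ⟨v, hv, h2⟩ := toBase y hy
    exact ⟨v⁻¹ * u, mul_mem (inv_mem hv) hu, by rw [Equiv.Perm.mul_apply, h1, Equiv.Perm.inv_eq_iff_eq, h2]⟩
  have hx₀ : x₀ ∈ b.support := Equiv.Perm.mem_support.2 hxb
  have hcardΔ : Δ.card + 1 ≤ p + q := by
    have := Finset.card_union_add_card_inter a.support b.support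
    have h1 : 0 < (a.support ∩ b.support).card :=
      Finset.card_pos.2 ⟨x₀, Finset.mem_inter.2 ⟨Equiv.Perm.mem_support.2 hxa, hx₀⟩⟩
    rw [← hΔ, hap, hbq] at this
    omega
  have prim : ∀ B ⊆ Δ, 2 ≤ B.card → B ≠ Δ → ∃ g ∈ K, ¬ Disjoint (B.image g) B ∧ B.image g ≠ B := by
    intro B hB h2 hne
    by_contra hall
    have hblock : ∀ u ∈ K, ∀ v ∈ K, ¬ Disjoint (B.image u) (B.image v) → B.image u = B.image v := by
      intro u hu v hv hd
      obtain ⟨y, h1, h3⟩ := Finset.not_disjoint_iff.1 hd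
      obtain ⟨s, hs, rfl⟩ := Finset.mem_image.1 h1
      obtain ⟨t, ht, hts⟩ := Finset.mem_image.1 h3
      have h4 : B.image (v⁻¹ * u : Perm α) = B := by
        by_contra h5
        refine hall ⟨v⁻¹ * u, mul_mem (inv_mem hv) hu, Finset.not_disjoint_iff.2 ⟨t, Finset.mem_image.2 ⟨s, hs, ?_⟩, ht⟩, h5⟩
        rw [Equiv.Perm.mul_apply, Equiv.Perm.inv_eq_iff_eq, hts]
      conv_rhs => rw [← h4, Finset.image_image]
      refine Finset.image_congr fun z _ => ?_
      simp
    obtain ⟨s, hs⟩ : B.Nonempty := Finset.card_pos.1 (by omega)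
    obtain ⟨u, hu, hus⟩ := htrans s (hB hs) x₀ (Finset.mem_union_right _ hx₀)
    have hxu : x₀ ∈ B.image u := Finset.mem_image.2 ⟨s, hs, hus⟩
    have hsub : ∀ w ∈ K, B.image w ⊆ Δ := fun w hw => Finset.image_subset_iff.2 fun z hz => hinv w hw z (hB hz)
    have hcard : ∀ w : Perm α, (B.image w).card = B.card := fun w => Finset.card_image_of_injective _ w.injective
    by_cases hmv : B.image (b * u : Perm α) = B.image u
    · have hbig : b.support ⊆ B.image u := by
        intro y hy
        obtain ⟨i, hi⟩ := hbc.exists_pow_eq hxb (Equiv.Perm.mem_support.1 hy)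
        rw [← hi]
        clear hi
        induction i with
        | zero => exact hxu
        | succ i ih =>
          rw [pow_succ', Equiv.Perm.mul_apply, ← hmv]
          obtain ⟨z, hz, hze⟩ := Finset.mem_image.1 ih
          exact Finset.mem_image.2 ⟨z, hz, by rw [Equiv.Perm.mul_apply, hze]⟩
      have hq' := Finset.card_le_card hbig
      rw [hcard, hbq] at hq'
      obtain ⟨y, hy, hyB⟩ : ∃ y ∈ Δ, y ∉ B.image u := by
        by_contra hfull
        push Not at hfull
        have h1 := Finset.card_le_card (fun y hy => hfull y hy : Δ ⊆ B.image u)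
        rw [hcard] at h1
        exact hne (Finset.eq_of_subset_of_card_le hB h1)
      obtain ⟨v, hv, hvy⟩ := htrans s (hB hs) y hy
      have hd : Disjoint (B.image u) (B.image v) := by
        by_contra hnd
        exact hyB (hblock u hu v hv hnd ▸ Finset.mem_image.2 ⟨s, hs, hvy⟩)
      have := Finset.card_le_card (Finset.union_subset (hsub u hu) (hsub v hv))
      rw [Finset.card_union_of_disjoint hd, hcard, hcard] at this
      omega
    · have hdisj : ((Finset.range q : Finset ℕ) : Set ℕ).PairwiseDisjoint fun i => B.image (b ^ i * u : Perm α) := by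
        have key : ∀ i j, i < j → j < q → Disjoint (B.image (b ^ i * u : Perm α)) (B.image (b ^ j * u : Perm α)) := by
          intro i j hij hj
          by_contra hnd
          have he := hblock _ (mul_mem (pow_mem hbK i) hu) _ (mul_mem (pow_mem hbK j) hu) hnd
          have h1 : B.image (b ^ (j - i) * u : Perm α) = B.image u := by
            have h := congrArg (fun T => T.image (⇑(b ^ i)⁻¹)) he
            simp only [Finset.image_image] at h
            rw [show j = i + (j - i) by omega, pow_add] at h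
            convert h.symm using 1
            · refine Finset.image_congr fun z _ => ?_
              simp
            · refine Finset.image_congr fun z _ => ?_
              simp
          have hco : Nat.Coprime (j - i) (orderOf b) := by
            rw [hbc.orderOf, hbq]
            exact Nat.Coprime.symm (hq.coprime_iff_not_dvd.2 fun hd => by
              have := Nat.le_of_dvd (by omega) hd
              omega)
          obtain ⟨t, ht⟩ := exists_pow_eq_self_of_coprime hco
          have h2 : ∀ t : ℕ, B.image ((b ^ (j - i)) ^ t * u : Perm α) = B.image u := by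
            intro t
            induction t with
            | zero => simp
            | succ t iht =>
              calc B.image ((b ^ (j - i)) ^ (t + 1) * u : Perm α)
                  = (B.image ((b ^ (j - i)) ^ t * u : Perm α)).image ⇑(b ^ (j - i)) := by
                    rw [Finset.image_image]
                    exact Finset.image_congr fun z _ => by simp [pow_succ']
                _ = B.image (b ^ (j - i) * u : Perm α) := by
                    rw [iht, Finset.image_image]
                    exact Finset.image_congr fun z _ => by simp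
                _ = B.image u := h1
          exact hmv (ht ▸ h2 t)
        intro i hi j hj hij
        rw [Finset.coe_range, Set.mem_Iio] at hi hj
        rcases Nat.lt_or_gt_of_ne hij with h | h
        · exact key i j h hj
        · exact (key j i h hi).symm
      have := Finset.card_le_card (Finset.biUnion_subset.2 fun i _ => hsub _ (mul_mem (pow_mem hbK i) hu) :
        ((Finset.range q).biUnion fun i => B.image (b ^ i * u : Perm α)) ⊆ Δ)
      rw [Finset.card_biUnion hdisj, Finset.sum_congr rfl fun i _ => hcard (b ^ i * u), Finset.sum_const, Finset.card_range, smul_eq_mul] at this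
      have : q * 2 ≤ q * B.card := Nat.mul_le_mul_left q h2
      omega
  obtain ⟨Γ, hΓ, h2, hne, htr⟩ : ∃ Γ, Γ ⊆ Δ ∧ 2 ≤ Γ.card ∧ Γ ≠ Δ ∧ FixTrans K Δ Γ := by
    by_cases hsub : a.support ⊆ b.support
    · refine ⟨a.support, Finset.subset_union_left, by omega, fun e => ?_, fun x hx y hy => ?_⟩
      · have := Finset.card_le_card (e.symm ▸ Finset.subset_union_right : b.support ⊆ a.support)
        omega
      · obtain ⟨i, hi⟩ := hac.sameCycle (Equiv.Perm.mem_support.1 hx) (Equiv.Perm.mem_support.1 hy)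
        exact ⟨a ^ i, zpow_mem haK i, fun z _ hz =>
          Equiv.Perm.notMem_support.1 fun h => hz (Equiv.Perm.support_zpow_le a i h), hi⟩
    · refine ⟨b.support, Finset.subset_union_right, by omega, fun e => hsub (e.symm ▸ Finset.subset_union_left), fun x hx y hy => ?_⟩
      obtain ⟨i, hi⟩ := hbc.sameCycle (Equiv.Perm.mem_support.1 hx) (Equiv.Perm.mem_support.1 hy)
      exact ⟨b ^ i, zpow_mem hbK i, fun z _ hz =>
        Equiv.Perm.notMem_support.1 fun h => hz (Equiv.Perm.support_zpow_le b i h), hi⟩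
  obtain ⟨z, hz, htz⟩ := two_transitive hinv prim _ Γ hΓ rfl h2 hne htr
  obtain ⟨y, hy⟩ : (Δ.erase z).Nonempty := by
    rw [← Finset.card_pos, Finset.card_erase_of_mem hz]
    have := Finset.card_le_card hΓ
    omega
  obtain ⟨hyz, hyΔ⟩ := Finset.mem_erase.1 hy
  obtain ⟨g, hg, hgy⟩ := htrans z hz y hyΔ
  have hne' : g⁻¹ z ≠ z := fun e => hyz (by rw [← hgy]; exact (Equiv.Perm.inv_eq_iff_eq.1 e).symm)
  obtain ⟨h, hh, hfz, hhy⟩ := htz y hy (g⁻¹ z) (Finset.mem_erase.2 ⟨hne', hinv _ (inv_mem hg) z hz⟩)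
  have hzz : h z = z := hfz z hz (Finset.notMem_erase z Δ)
  set w := g * h * g⁻¹ * g with hw
  have h1 : w z = y := by simp [hw, hzz, hgy]
  have h3 : w y = z := by simp [hw, hhy]
  have hwH : w ∈ H := hKH (mul_mem (mul_mem (mul_mem hg hh) (inv_mem hg)) hg)
  refine dvd_trans ?_ (Subgroup.orderOf_dvd_natCard H hwH)
  by_contra hodd
  have hev : ∀ t : ℕ, (w ^ (2 * t)) z = z := by
    intro t
    induction t with
    | zero => rfl
    | succ t iht =>
      rw [show 2 * (t + 1) = 2 + 2 * t by ring, pow_add, Equiv.Perm.mul_apply, iht, pow_two, Equiv.Perm.mul_apply, h1, h3]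
  have h4 := congrArg (fun σ : Perm α => σ z) (pow_orderOf_eq_one w)
  simp only [Equiv.Perm.one_apply] at h4
  rw [show orderOf w = 1 + 2 * (orderOf w / 2) by omega, pow_add, Equiv.Perm.mul_apply, hev, pow_one, h1] at h4
  exact hyz h4

theorem two_mem {π : Set ℕ} {H : Subgroup (Perm α)} (h1 : ∀ p : ℕ, p.Prime → p ∣ Nat.card H → p ∈ π)
    (h2 : ∀ p : ℕ, p.Prime → p ∈ π → ¬ p ∣ H.index) {p q : ℕ} (hp : p.Prime) (hq : q.Prime) (hpq : p < q)
    (hpπ : p ∈ π) (hqπ : q ∈ π) (hqn : q ≤ Fintype.card α) : 2 ∈ π := by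
  have := Fact.mk hp
  have := Fact.mk hq
  obtain ⟨U, hU, hUm⟩ := cover (h2 p hp hpπ)
  obtain ⟨V, hV, hVm⟩ := cover (h2 q hq hqπ)
  have key : ∀ m : ℕ, 0 < m → m ≤ Fintype.card α → Fintype.card α < 2 * (m * (Fintype.card α / m)) := fun m h0 h => by
    have := Nat.mod_lt (Fintype.card α) h0
    have := Nat.mod_add_div (Fintype.card α) m
    have : m * 1 ≤ m * (Fintype.card α / m) := Nat.mul_le_mul_left m ((Nat.one_le_div_iff h0).2 h)
    omega
  obtain ⟨x, hx⟩ : (U ∩ V).Nonempty := by
    rw [← Finset.card_pos]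
    have := Finset.card_union_add_card_inter U V
    have := Finset.card_le_univ (U ∪ V)
    have := key p hp.pos (by omega)
    have := key q hq.pos hqn
    omega
  obtain ⟨a, ha, hac, hap, hax⟩ := hUm x (Finset.mem_inter.1 hx).1
  obtain ⟨b, hb, hbc, hbq, hbx⟩ := hVm x (Finset.mem_inter.1 hx).2
  exact h1 2 Nat.prime_two (two_dvd_of_cycles ha hb hac hbc hap hbq hq hp.two_le hpq hax hbx)

end Cfsg.Agent.HallSymShape
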