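import Cfsg.Agent.HallSymShape.Arith
import Cfsg.Agent.HallSymShape.Even

/-!
The structure of Hall subgroups of symmetric groups.
-/

set_option autoImplicit false

namespace Cfsg.Agent.HallSymShape

open Equiv Equiv.Perm
open scoped Nat

variable {α : Type*} [Fintype α] [DecidableEq α] {H : Subgroup (Perm α)}

open Classical in
/-- The class of a point under the transpositions of a subgroup. -/
noncomputable def cl (H : Subgroup (Perm α)) (x : α) : Finset α := Finset.univ.filter fun y => Equiv.swap x y ∈ H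

theorem mem_cl {x y : α} : y ∈ cl H x ↔ Equiv.swap x y ∈ H := by
  classical
  simp [cl]

theorem self_mem_cl (x : α) : x ∈ cl H x := mem_cl.2 (by rw [Equiv.swap_self]; exact one_mem H)

theorem swap_trans {x y z : α} (h1 : Equiv.swap x y ∈ H) (h2 : Equiv.swap y z ∈ H) : Equiv.swap x z ∈ H := by
  rcases eq_or_ne x y with rfl | hxy
  · exact h2
  rcases eq_or_ne x z with rfl | hxz
  · rw [Equiv.swap_self]; exact one_mem H
  have := mul_mem (mul_mem h2 h1) h2
  rcases eq_or_ne y z with rfl | hyz
  · exact h1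
  have e : Equiv.swap y z * Equiv.swap x y * Equiv.swap y z = Equiv.swap x z := by
    refine Equiv.ext fun w => ?_
    simp only [Equiv.Perm.mul_apply, Equiv.swap_apply_def]
    grind
  rwa [e] at this

theorem cl_eq {x y : α} (h : y ∈ cl H x) : cl H y = cl H x := by
  rw [mem_cl] at h
  ext z
  rw [mem_cl, mem_cl]
  exact ⟨fun h' => swap_trans h h', fun h' => swap_trans (by rwa [Equiv.swap_comm]) h'⟩

theorem cl_map {g : Perm α} (hg : g ∈ H) (x : α) : cl H (g x) = (cl H x).image g := by
  ext y
  rw [mem_cl, Finset.mem_image]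
  constructor
  · intro h
    refine ⟨g⁻¹ y, mem_cl.2 ?_, by simp⟩
    have := mul_mem (mul_mem (inv_mem hg) h) (inv_mem (inv_mem hg))
    rwa [← Equiv.swap_apply_apply, Equiv.Perm.inv_def, Equiv.symm_apply_apply] at this
  · rintro ⟨z, hz, rfl⟩
    rw [Equiv.swap_apply_apply]
    exact mul_mem (mul_mem hg (mem_cl.1 hz)) (inv_mem hg)

/-- A permutation fixing every class lies in the subgroup. -/
theorem mem_of_fix : ∀ (k : ℕ) (g : Perm α), g.support.card ≤ k → (∀ x, g x ∈ cl H x) → g ∈ H := by
  intro k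
  induction k with
  | zero =>
    intro g hg _
    rw [Nat.le_zero, Finset.card_eq_zero, Equiv.Perm.support_eq_empty_iff] at hg
    exact hg ▸ one_mem H
  | succ k ih =>
    intro g hg h
    by_cases hall : g.support = ∅
    · rw [Equiv.Perm.support_eq_empty_iff] at hall
      exact hall ▸ one_mem H
    obtain ⟨x, hx⟩ := Finset.nonempty_iff_ne_empty.2 hall
    have hs : Equiv.swap x (g x) ∈ H := mem_cl.1 (h x)
    have h2 : Equiv.swap x (g x) * g ∈ H := by
      refine ih _ ?_ fun y => ?_
      · have : (Equiv.swap x (g x) * g).support.card < g.support.card :=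
          Equiv.Perm.card_support_swap_mul (Equiv.Perm.mem_support.1 hx)
        omega
      · rw [Equiv.Perm.mul_apply]
        rcases eq_or_ne (g y) x with e | e
        · rw [e, Equiv.swap_apply_left]
          have := h y
          rw [e] at this
          exact mem_cl.2 (swap_trans (mem_cl.1 this) hs)
        · rcases eq_or_ne (g y) (g x) with e' | e'
          · rw [g.injective e', Equiv.swap_apply_right]
            exact self_mem_cl x
          · rw [Equiv.swap_apply_of_ne_of_ne e e']
            exact h y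
    have := mul_mem hs h2
    rwa [← mul_assoc, Equiv.swap_mul_self, one_mul] at this

theorem exists_big {q : ℕ} [Fact q.Prime] (h2 : ¬ 2 ∣ H.index) (hq : ¬ q ∣ H.index) (hqn : q ≤ Fintype.card α) :
    ∃ x, q ≤ (cl H x).card := by
  have hqp : q.Prime := Fact.out
  obtain ⟨U, hU, hUm⟩ := cover (p := 2) h2
  obtain ⟨V, hV, hVm⟩ := cover hq
  obtain ⟨x, hx⟩ : (U ∩ V).Nonempty := by
    rw [← Finset.card_pos]
    have := Finset.card_union_add_card_inter U V
    have := Finset.card_le_univ (U ∪ V)
    have : q * 1 ≤ q * (Fintype.card α / q) := Nat.mul_le_mul_left q ((Nat.one_le_div_iff hqp.pos).2 hqn)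
    have := hqp.two_le
    omega
  obtain ⟨t, ht, -, ht2, htx⟩ := hUm x (Finset.mem_inter.1 hx).1
  obtain ⟨b, hb, hbc, hbq, hbx⟩ := hVm x (Finset.mem_inter.1 hx).2
  refine ⟨x, hbq ▸ Finset.card_le_card fun y hy => ?_⟩
  set w := t x
  have hw : w ∈ cl H x := by
    obtain ⟨a, c, hac, rfl⟩ := Equiv.Perm.card_support_eq_two.1 ht2
    have hxw : x = a ∨ x = c := by
      by_contra h
      push Not at h
      exact htx (Equiv.swap_apply_of_ne_of_ne h.1 h.2)
    rcases hxw with rfl | rfl
    · exact mem_cl.2 (by simp only [w, Equiv.swap_apply_left]; exact ht)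
    · exact mem_cl.2 (by simp only [w, Equiv.swap_apply_right]; rwa [Equiv.swap_comm] at ht)
  obtain ⟨i, hi⟩ := hbc.exists_pow_eq hbx (Equiv.Perm.mem_support.1 hy)
  by_cases hws : w ∈ b.support
  · obtain ⟨k, hk⟩ := hbc.exists_pow_eq hbx (Equiv.Perm.mem_support.1 hws)
    have hfix : (cl H x).image (b ^ k : Perm α) = cl H x := by rw [← cl_map (pow_mem hb k), hk, cl_eq hw]
    have hco : k.Coprime (orderOf b) := by
      rw [hbc.orderOf, hbq]
      refine Nat.Coprime.symm (hqp.coprime_iff_not_dvd.2 fun hd => ?_)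
      obtain ⟨s, rfl⟩ := hd
      rw [pow_mul, ← hbq, ← hbc.orderOf, pow_orderOf_eq_one, one_pow] at hk
      exact htx hk.symm
    obtain ⟨s, hs⟩ := exists_pow_eq_self_of_coprime hco
    have h3 : ∀ j : ℕ, ∀ z ∈ cl H x, ((b ^ k) ^ j) z ∈ cl H x := by
      intro j
      induction j with
      | zero => exact fun z hz => hz
      | succ j ihj =>
        intro z hz
        rw [pow_succ', Equiv.Perm.mul_apply, ← hfix]
        exact Finset.mem_image_of_mem _ (ihj z hz)
    have := h3 (s * i) x (self_mem_cl x)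
    rwa [pow_mul _ s i, hs, hi] at this
  · have hsw : Equiv.swap ((b ^ i) x) ((b ^ i) w) ∈ H := by
      rw [Equiv.swap_apply_apply]
      exact mul_mem (mul_mem (pow_mem hb i) (mem_cl.1 hw)) (inv_mem (pow_mem hb i))
    rw [hi, Equiv.Perm.notMem_support.1 fun h => hws (Equiv.Perm.support_pow_le b i h), Equiv.swap_comm] at hsw
    exact mem_cl.2 (swap_trans (mem_cl.1 hw) hsw)

/-- The classes. -/
noncomputable def classes (H : Subgroup (Perm α)) : Finset (Finset α) := Finset.univ.image (cl H)

theorem fibre {C : Finset α} (hC : C ∈ classes H) : (Finset.univ.filter fun y => cl H y = C) = C := by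
  obtain ⟨x, -, rfl⟩ := Finset.mem_image.1 hC
  ext y
  rw [Finset.mem_filter]
  exact ⟨fun h => h.2 ▸ self_mem_cl y, fun h => ⟨Finset.mem_univ y, cl_eq h⟩⟩

theorem sum_classes : ∑ C ∈ classes H, C.card = Fintype.card α := by
  rw [← Finset.card_univ, Finset.card_eq_sum_card_image (cl H) Finset.univ]
  exact Finset.sum_congr rfl fun C hC => by rw [fibre hC]

theorem map_classes {g : Perm α} (hg : g ∈ H) {C : Finset α} (hC : C ∈ classes H) : C.image g ∈ classes H := by
  obtain ⟨x, -, rfl⟩ := Finset.mem_image.1 hC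
  exact Finset.mem_image.2 ⟨g x, Finset.mem_univ _, cl_map hg x⟩

/-- The permutations fixing every class. -/
def classFix (H : Subgroup (Perm α)) : Subgroup (Perm α) where
  carrier := {g | cl H ∘ g = cl H}
  mul_mem' {g k} hg hk := funext fun x => by
    have h1 := congrFun hg (k x)
    have h2 := congrFun hk x
    simp only [Function.comp_apply] at h1 h2 ⊢
    rw [Equiv.Perm.mul_apply, h1, h2]
  one_mem' := rfl
  inv_mem' {g} hg := funext fun x => by
    have h1 := congrFun hg (g⁻¹ x)
    simp only [Function.comp_apply] at h1 ⊢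
    rw [← h1]
    simp

theorem card_classFix : Nat.card (classFix H) = ∏ C ∈ classes H, (C.card)! := by
  classical
  show Nat.card {g : Perm α // cl H ∘ g = cl H} = _
  rw [Nat.card_eq_fintype_card, DomMulAct.stabilizer_card']
  refine Finset.prod_congr rfl fun C hC => ?_
  rw [Fintype.card_subtype, fibre hC]

/-- The action on the classes. -/
noncomputable def classPerm (H : Subgroup (Perm α)) : ↥H →* Perm ↥(classes H) where
  toFun g :=
    { toFun := fun C => ⟨C.1.image (g : Perm α), map_classes g.2 C.2⟩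
      invFun := fun C => ⟨C.1.image ((g⁻¹ : ↥H) : Perm α), map_classes (g⁻¹).2 C.2⟩
      left_inv := fun C => Subtype.ext (by simp [Finset.image_image, Function.comp_def])
      right_inv := fun C => Subtype.ext (by simp [Finset.image_image, Function.comp_def]) }
  map_one' := Equiv.ext fun C => Subtype.ext (by simp)
  map_mul' g k := Equiv.ext fun C => Subtype.ext (by simp [Finset.image_image, Equiv.Perm.coe_mul])

theorem card_ker : Nat.card (classPerm H).ker ∣ ∏ C ∈ classes H, (C.card)! := by
  rw [← card_classFix, ← Subgroup.card_map_of_injective (Subgroup.subtype_injective H)]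
  refine Subgroup.card_dvd_of_le ?_
  rintro _ ⟨g, hg, rfl⟩
  refine funext fun x => ?_
  have := congrArg Subtype.val (Equiv.congr_fun (MonoidHom.mem_ker.1 hg) ⟨cl H x, Finset.mem_image_of_mem _ (Finset.mem_univ x)⟩)
  simp only [Function.comp_apply, Subgroup.coe_subtype]
  rw [cl_map g.2]
  exact this

theorem card_range : Nat.card (classPerm H).range ∣
    ∏ c ∈ (classes H).image Finset.card, (((classes H).filter fun C => C.card = c).card)! := by
  classical
  let W : Subgroup (Perm ↥(classes H)) :=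
    { carrier := {g | (fun C : ↥(classes H) => C.1.card) ∘ g = fun C => C.1.card}
      mul_mem' := fun {g k} hg hk => funext fun x => by
        have h1 := congrFun hg (k x)
        have h2 := congrFun hk x
        simp only [Function.comp_apply] at h1 h2 ⊢
        rw [Equiv.Perm.mul_apply, h1, h2]
      one_mem' := rfl
      inv_mem' := fun {g} hg => funext fun x => by
        have h1 := congrFun hg (g⁻¹ x)
        simp only [Function.comp_apply] at h1 ⊢
        rw [← h1]
        simp }
  have hW : Nat.card W = ∏ c ∈ (classes H).image Finset.card, (((classes H).filter fun C => C.card = c).card)! := by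
    show Nat.card {g : Perm ↥(classes H) // (fun C : ↥(classes H) => C.1.card) ∘ g = fun C => C.1.card} = _
    rw [Nat.card_eq_fintype_card, DomMulAct.stabilizer_card']
    refine Finset.prod_congr ?_ fun c _ => congrArg Nat.factorial ?_
    · rw [Finset.univ_eq_attach]
      ext c
      simp
    · rw [Fintype.card_subtype, Finset.univ_eq_attach,
        Finset.filter_attach (fun C : Finset α => C.card = c), Finset.card_map, Finset.card_attach]
  rw [← hW]
  refine Subgroup.card_dvd_of_le ?_
  rintro _ ⟨g, rfl⟩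
  refine funext fun C => ?_
  exact Finset.card_image_of_injective _ (g : Perm α).injective

/-- Preserving the partition into a set and its complement. -/
def Pres (Δ : Finset α) (g : Perm α) : Prop := ∀ x y, (x ∈ Δ ↔ y ∈ Δ) → (g x ∈ Δ ↔ g y ∈ Δ)

/-- Hall subgroups of symmetric groups for at least two and not all primes. -/
theorem structure_thm {π : Set ℕ} (h1 : ∀ p : ℕ, p.Prime → p ∣ Nat.card H → p ∈ π)
    (h2 : ∀ p : ℕ, p.Prime → p ∈ π → ¬ p ∣ H.index) {p q : ℕ} (hp : p.Prime) (hq : q.Prime) (hpq : p < q)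
    (hpπ : p ∈ π) (hqπ : q ∈ π) (hqn : q ≤ Fintype.card α) {ℓ : ℕ} (hℓ : ℓ.Prime) (hℓn : ℓ ≤ Fintype.card α) (hℓπ : ℓ ∉ π) :
    ∃ (r R : ℕ) (Δ : Finset α), r.Prime ∧ 5 ≤ r ∧ r ≤ Fintype.card α ∧ r ∉ π ∧
      (∀ t : ℕ, t.Prime → t ≤ Fintype.card α → (t ∈ π ↔ t < r)) ∧ Δ.card = r - 1 ∧ Fintype.card α = r - 1 + R ∧
      0 < R ∧ ((R < r - 1 ∧ ∀ t : ℕ, t.Prime → t < r → ¬ t ∣ (r - 1 + R).choose R) ∨ (R = 4 ∧ r = 5)) ∧
      ∀ g, g ∈ H ↔ Pres Δ g := by
  classical
  have htwo : 2 ∈ π := two_mem h1 h2 hp hq hpq hpπ hqπ hqn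
  have h2' := h2 2 Nat.prime_two htwo
  have hex : ∃ m : ℕ, m.Prime ∧ m ≤ Fintype.card α ∧ m ∉ π := ⟨ℓ, hℓ, hℓn, hℓπ⟩
  set r := Nat.find hex
  obtain ⟨hr, hrn, hrπ⟩ := Nat.find_spec hex
  have hlow : ∀ t : ℕ, t.Prime → t < r → t ∈ π := fun t ht htr => by
    by_contra h
    exact Nat.find_min hex htr ⟨ht, by omega, h⟩
  have hclass : ∀ x, (cl H x).card < r := by
    intro x
    by_contra hbig
    push Not at hbig
    obtain ⟨V, hV, hVc⟩ := Finset.exists_subset_card_eq hbig
    obtain ⟨c, hc, hcs⟩ := exists_cycle_of_finset (V := V) (hVc ▸ hr.two_le)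
    have hcH : c ∈ H := by
      refine mem_of_fix _ c le_rfl fun y => ?_
      by_cases hy : c y = y
      · rw [hy]; exact self_mem_cl y
      · have h3 : y ∈ cl H x := hV (hcs ▸ Equiv.Perm.mem_support.2 hy)
        rw [cl_eq h3]
        exact hV (hcs ▸ Equiv.Perm.apply_mem_support.2 (Equiv.Perm.mem_support.2 hy))
    refine hrπ (h1 r hr ?_)
    have := Subgroup.orderOf_dvd_natCard H hcH
    rwa [hc.orderOf, hcs, hVc] at this
  have hhigh : ∀ t : ℕ, t.Prime → t ≤ Fintype.card α → t ∈ π → t < r := fun t ht htn htπ => by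
    have := Fact.mk ht
    obtain ⟨x, hx⟩ := exists_big h2' (h2 t ht htπ) htn
    have := hclass x
    omega
  have hr5 : 5 ≤ r := by
    have := hhigh q hq hqn hqπ
    have := hp.two_le
    by_contra h
    have h4 : r = 4 := by omega
    exact absurd (h4 ▸ hr : Nat.Prime 4) (by norm_num)
  set Cl := classes H with hCl
  set S := Cl.image Finset.card with hSdef
  set k : ℕ → ℕ := fun c => (Cl.filter fun C => C.card = c).card with hk
  have hcomp : ∀ f : ℕ → ℕ, ∑ C ∈ Cl, f C.card = ∑ c ∈ S, k c * f c := fun f => by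
    rw [Finset.sum_comp f Finset.card]
    simp [hk, hSdef]
  have hsingle : ∀ C ∈ Cl, ∀ D ∈ Cl, C.card = 1 → D.card = 1 → C = D := by
    have := Fact.mk Nat.prime_two
    obtain ⟨U, hU, hUm⟩ := cover (p := 2) h2'
    have hout : ∀ C ∈ Cl, C.card = 1 → ∃ x, C = cl H x ∧ x ∉ U := by
      intro C hC h
      obtain ⟨x, -, rfl⟩ := Finset.mem_image.1 hC
      refine ⟨x, rfl, fun hx => ?_⟩
      obtain ⟨t, ht, -, ht2, htx⟩ := hUm x hx
      obtain ⟨a, c, hac, rfl⟩ := Equiv.Perm.card_support_eq_two.1 ht2
      obtain ⟨d, hd⟩ := Finset.card_eq_one.1 h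
      have hxd := Finset.mem_singleton.1 (hd ▸ self_mem_cl x)
      have hsx : Equiv.swap a c x ∈ cl H x := by
        have hxw : x = a ∨ x = c := by
          by_contra h
          push Not at h
          exact htx (Equiv.swap_apply_of_ne_of_ne h.1 h.2)
        rcases hxw with rfl | rfl
        · rw [Equiv.swap_apply_left]; exact mem_cl.2 ht
        · rw [Equiv.swap_apply_right]; exact mem_cl.2 (by rwa [Equiv.swap_comm])
      rw [hd, Finset.mem_singleton] at hsx
      exact htx (hsx.trans hxd.symm)
    intro C hC D hD hC1 hD1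
    by_contra hne
    obtain ⟨x, rfl, hx⟩ := hout C hC hC1
    obtain ⟨y, rfl, hy⟩ := hout D hD hD1
    have hxy : x ≠ y := fun e => hne (by rw [e])
    have h3 := Finset.card_le_univ (U ∪ {x, y})
    rw [Finset.card_union_of_disjoint (by simp [hx, hy]), Finset.card_pair hxy] at h3
    omega
  have hcount : Nat.card H ∣ (∏ C ∈ Cl, (C.card)!) * ∏ c ∈ S, (k c)! := by
    rw [← Subgroup.card_mul_index (classPerm H).ker, Subgroup.index_ker]
    exact mul_dvd_mul card_ker card_range
  have htotal : Nat.card H * H.index = (Fintype.card α)! := by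
    rw [Subgroup.card_mul_index, Nat.card_perm, Nat.card_eq_fintype_card]
  have hval : ∀ t : ℕ, t.Prime → t < r → ((Fintype.card α)!).factorization t = (Nat.card H).factorization t := by
    intro t ht htr
    rw [← htotal, Nat.factorization_mul Nat.card_pos.ne' Subgroup.index_ne_zero_of_finite, Finsupp.add_apply,
      Nat.factorization_eq_zero_of_not_dvd (h2 t ht (hlow t ht htr)), add_zero]
  have hshape : Shape (Fintype.card α) r S k := by
    refine ⟨hr, hr5, hrn, ?_, ?_, ?_, ?_⟩
    · intro c hc
      obtain ⟨C, hC, rfl⟩ := Finset.mem_image.1 hc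
      obtain ⟨x, -, rfl⟩ := Finset.mem_image.1 hC
      exact ⟨Finset.card_pos.2 ⟨x, self_mem_cl x⟩, hclass x, Finset.card_pos.2 ⟨_, Finset.mem_filter.2 ⟨hC, rfl⟩⟩⟩
    · intro _
      refine Finset.card_le_one.2 fun C hC D hD => ?_
      rw [Finset.mem_filter] at hC hD
      exact hsingle C hC.1 D hD.1 hC.2 hD.2
    · rw [← hcomp fun c => c]
      exact sum_classes
    · intro t ht htr
      have h3 := (Nat.factorization_le_iff_dvd Nat.card_pos.ne'
        (mul_ne_zero (Finset.prod_ne_zero_iff.2 fun _ _ => Nat.factorial_ne_zero _)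
          (Finset.prod_ne_zero_iff.2 fun _ _ => Nat.factorial_ne_zero _))).2 hcount t
      rw [Nat.factorization_mul (Finset.prod_ne_zero_iff.2 fun _ _ => Nat.factorial_ne_zero _)
          (Finset.prod_ne_zero_iff.2 fun _ _ => Nat.factorial_ne_zero _), Finsupp.add_apply,
        Nat.factorization_prod_apply fun _ _ => Nat.factorial_ne_zero _,
        Nat.factorization_prod_apply fun _ _ => Nat.factorial_ne_zero _, hcomp fun c => (c !).factorization t,
        ← Finset.sum_add_distrib] at h3
      rwa [hval t ht htr]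
  obtain ⟨R, C, D, hCD, hClCD, hCc, hR, hRn, hcases⟩ : ∃ (R : ℕ) (C D : Finset α), C ≠ D ∧ Cl = {C, D} ∧ C.card = r - 1 ∧
      0 < R ∧ Fintype.card α = r - 1 + R ∧
      ((R < r - 1 ∧ D.card = R ∧ ∀ t : ℕ, t.Prime → t < r → ¬ t ∣ (r - 1 + R).choose R) ∨
        (R = 4 ∧ r = 5 ∧ D.card = 4)) := by
    rcases hshape.classify with ⟨R, hRlt, hR0, hn, hSe, hkm, hkR, hfree⟩ | ⟨hn, hr', hSe, hk4⟩
    · obtain ⟨C, hC⟩ := Finset.card_eq_one.1 hkm
      obtain ⟨D, hD⟩ := Finset.card_eq_one.1 hkR
      have hC' := Finset.mem_filter.1 (hC ▸ Finset.mem_singleton_self C : C ∈ Cl.filter fun E => E.card = r - 1)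
      have hD' := Finset.mem_filter.1 (hD ▸ Finset.mem_singleton_self D : D ∈ Cl.filter fun E => E.card = R)
      refine ⟨R, C, D, fun e => ?_, ?_, hC'.2, hR0, hn, Or.inl ⟨hRlt, hD'.2, hn ▸ hfree⟩⟩
      · rw [e] at hC'
        omega
      · refine Finset.Subset.antisymm (fun E hE => ?_) (by simp [Finset.insert_subset_iff, hC'.1, hD'.1])
        have hEc : E.card ∈ S := Finset.mem_image_of_mem _ hE
        rw [hSe, Finset.mem_insert, Finset.mem_singleton] at hEc
        rcases hEc with e | e
        · have : E ∈ Cl.filter fun E => E.card = r - 1 := Finset.mem_filter.2 ⟨hE, e⟩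
          rw [hC, Finset.mem_singleton] at this
          simp [this]
        · have : E ∈ Cl.filter fun E => E.card = R := Finset.mem_filter.2 ⟨hE, e⟩
          rw [hD, Finset.mem_singleton] at this
          simp [this]
    · obtain ⟨C, D, hne, hCD⟩ := Finset.card_eq_two.1 hk4
      have hall : Cl.filter (fun E => E.card = 4) = Cl := Finset.filter_true_of_mem fun E hE => by
        have hEc : E.card ∈ S := Finset.mem_image_of_mem _ hE
        rwa [hSe, Finset.mem_singleton] at hEc
      have h4 : ∀ E ∈ ({C, D} : Finset (Finset α)), E.card = 4 := by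
        intro E hE
        rw [← hCD] at hE
        exact (Finset.mem_filter.1 hE).2
      refine ⟨4, C, D, hne, hall ▸ hCD, ?_, by norm_num, by omega, Or.inr ⟨rfl, hr', h4 D (by simp)⟩⟩
      rw [h4 C (by simp), hr']
  have hCm : C ∈ Cl := by rw [hClCD]; simp
  have hDm : D ∈ Cl := by rw [hClCD]; simp
  have hclx : ∀ x, (x ∈ C → cl H x = C) ∧ (x ∉ C → cl H x = D) := fun x => by
    have : cl H x ∈ Cl := Finset.mem_image_of_mem _ (Finset.mem_univ x)
    rw [hClCD, Finset.mem_insert, Finset.mem_singleton] at this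
    rcases this with e | e
    · exact ⟨fun _ => e, fun h => absurd (e ▸ self_mem_cl x) h⟩
    · refine ⟨fun h => ?_, fun _ => e⟩
      obtain ⟨c, -, rfl⟩ := Finset.mem_image.1 hCm
      rw [cl_eq h]
  have hiff : ∀ x y, (x ∈ C ↔ y ∈ C) ↔ cl H x = cl H y := fun x y => by
    by_cases hx : x ∈ C <;> by_cases hy : y ∈ C
    · simp [hx, hy, (hclx x).1 hx, (hclx y).1 hy]
    · simp [hx, hy, (hclx x).1 hx, (hclx y).2 hy, hCD]
    · simp [hx, hy, (hclx x).2 hx, (hclx y).1 hy, hCD.symm]
    · simp [hx, hy, (hclx x).2 hx, (hclx y).2 hy]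
  refine ⟨r, R, C, hr, hr5, hrn, hrπ, fun t ht htn => ⟨hhigh t ht htn, hlow t ht⟩, hCc, hRn, hR, ?_, fun g => ⟨fun hg x y h => ?_, fun hg => ?_⟩⟩
  · rcases hcases with ⟨a, -, b⟩ | ⟨a, b, -⟩
    · exact Or.inl ⟨a, b⟩
    · exact Or.inr ⟨a, b⟩
  · rw [hiff] at h ⊢
    rw [cl_map hg, cl_map hg, h]
  · have hfixmem : ∀ h : Perm α, Pres C h → (∀ x ∈ C, h x ∈ C) → h ∈ H := by
      intro h hp' hin
      have hout : ∀ x, x ∉ C → h x ∉ C := by
        intro x hx hc
        have himg : C.image h = C := Finset.eq_of_subset_of_card_le (Finset.image_subset_iff.2 hin)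
          (Finset.card_image_of_injective C h.injective).ge
        rw [← himg] at hc
        obtain ⟨y, hy, hye⟩ := Finset.mem_image.1 hc
        exact hx (h.injective hye ▸ hy)
      refine mem_of_fix _ h le_rfl fun x => ?_
      by_cases hx : x ∈ C
      · rw [(hclx x).1 hx]; exact hin x hx
      · rw [← (hclx x).2 hx |>.trans ((hclx (h x)).2 (hout x hx)).symm |> Eq.symm]
        exact self_mem_cl (h x)
    obtain ⟨x₀, hx₀⟩ : C.Nonempty := Finset.card_pos.1 (by omega)
    by_cases hstay : g x₀ ∈ C
    · exact hfixmem g hg fun x hx => (hg x₀ x (iff_of_true hx₀ hx)).1 hstay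
    have hmoves : C.image g ⊆ D := by
      intro y hy
      obtain ⟨x, hx, rfl⟩ := Finset.mem_image.1 hy
      have hgx : g x ∉ C := fun h => hstay ((hg x₀ x (iff_of_true hx₀ hx)).2 h)
      exact (hclx (g x)).2 hgx ▸ self_mem_cl (g x)
    have hsize : C.card ≤ D.card := (Finset.card_image_of_injective C g.injective) ▸ Finset.card_le_card hmoves
    obtain ⟨hR4, hr', hD4⟩ : R = 4 ∧ r = 5 ∧ D.card = 4 := by
      rcases hcases with ⟨a, b, -⟩ | h
      · omega
      · exact h
    obtain ⟨u, hu, y₀, hy₀C, hy₀⟩ : ∃ u ∈ H, ∃ y ∈ C, u y ∉ C := by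
      by_contra hall
      push Not at hall
      have hker : (classPerm H).ker = ⊤ := by
        rw [eq_top_iff]
        intro v _
        refine MonoidHom.mem_ker.2 (Equiv.ext fun E => Subtype.ext ?_)
        have hvC : C.image (v : Perm α) = C := Finset.eq_of_subset_of_card_le
          (Finset.image_subset_iff.2 (hall _ v.2)) (Finset.card_image_of_injective _ (v : Perm α).injective).ge
        obtain ⟨E, hE⟩ := E
        have hE' := hE
        rw [← hCl, hClCD, Finset.mem_insert, Finset.mem_singleton] at hE'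
        rcases hE' with e | e
        · subst e; exact hvC
        · subst e
          show E.image (v : Perm α) = E
          have h3 : E.image (v : Perm α) ∈ Cl := map_classes v.2 hE
          rw [hClCD, Finset.mem_insert, Finset.mem_singleton] at h3
          rcases h3 with h3 | h3
          · exact absurd (Finset.image_injective (v : Perm α).injective (hvC.trans h3.symm)) hCD
          · exact h3
      have h4 := card_ker (H := H)
      rw [hker, Subgroup.card_top, ← hCl, hClCD, Finset.prod_pair hCD, hCc, hr', hD4] at h4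
      have h5 : (2 : ℕ) ^ 7 ∣ Nat.card H := by
        rw [Nat.prime_two.pow_dvd_iff_le_factorization Nat.card_pos.ne', ← hval 2 Nat.prime_two (by omega), hRn, hr', hR4,
          ← Nat.prime_two.pow_dvd_iff_le_factorization (Nat.factorial_ne_zero _)]
        decide
      exact absurd (h5.trans h4) (by decide)
    have h3 : ∀ x ∈ C, u⁻¹ (g x) ∈ C := by
      intro x hx
      have hu' : C.image u = D := by
        have h6 := map_classes hu hCm
        rw [← hCl, hClCD, Finset.mem_insert, Finset.mem_singleton] at h6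
        exact h6.resolve_left fun e => hy₀ (e ▸ Finset.mem_image_of_mem u hy₀C)
      obtain ⟨y, hy, hye⟩ := Finset.mem_image.1 (hu' ▸ hmoves (Finset.mem_image_of_mem g hx))
      rwa [← hye, Equiv.Perm.inv_def, Equiv.symm_apply_apply]
    have hpres : Pres C (u⁻¹ * g : Perm α) := fun x y h => by
      have h7 := hg x y h
      rw [hiff] at h7 ⊢
      simp only [Equiv.Perm.mul_apply]
      rw [cl_map (inv_mem hu), cl_map (inv_mem hu), h7]
    have h8 := mul_mem hu (hfixmem (u⁻¹ * g) hpres h3)
    rwa [mul_inv_cancel_left] at h8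

end Cfsg.Agent.HallSymShape
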