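import Cfsg.Prelude.Def_HallClasses
import Mathlib

/-!
General facts on the Hall properties.
-/

set_option autoImplicit false

namespace Cfsg.Agent.HallSymShape

open Cfsg

variable {G : Type*} [Group G] [Finite G] {π : Set ℕ}

theorem exists_le_maximal_pi {K : Subgroup G} (hK : IsPiSubgroup π K) :
    ∃ M, K ≤ M ∧ Maximal (IsPiSubgroup π) M :=
  Finite.exists_le_maximal hK

theorem maximal_of_hall {H : Subgroup G} (hH : IsPiHall π H) : Maximal (IsPiSubgroup π) H := by
  refine ⟨hH.1, fun M hM hle => Subgroup.relIndex_eq_one.1 (Nat.eq_one_iff_not_exists_prime_dvd.2 fun p hp hd => ?_)⟩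
  exact hH.2 p hp (hM p hp (hd.trans (Subgroup.relIndex_dvd_card _ _))) (hd.trans ⟨_, (Subgroup.relIndex_mul_index hle).symm⟩)

theorem card_conj (M : Subgroup G) (g : G) : (M.map (MulAut.conj g).toMonoidHom).index = M.index :=
  Subgroup.index_map_of_bijective (MulAut.conj g).bijective M

theorem e_of_d (h : IsDPiGroup π G) : IsEPiGroup π G := by
  have hbot : IsPiSubgroup π (⊥ : Subgroup G) := fun p hp hd => by
    rw [Subgroup.card_bot] at hd
    exact (hp.one_lt.ne' (Nat.dvd_one.1 hd)).elim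
  obtain ⟨M, -, hM⟩ := exists_le_maximal_pi hbot
  refine ⟨M, hM.1, fun p hp hπ hd => ?_⟩
  have := Fact.mk hp
  obtain ⟨P⟩ : Nonempty (Sylow p G) := inferInstance
  have hP : IsPiSubgroup π (P : Subgroup G) := fun q hq hd' => by
    obtain ⟨n, hn⟩ := P.2.exists_card_eq
    rw [hn] at hd'
    rwa [(Nat.prime_dvd_prime_iff_eq hq hp).1 (hq.dvd_of_dvd_pow hd')]
  obtain ⟨M', hle, hM'⟩ := exists_le_maximal_pi hP
  obtain ⟨g, rfl⟩ := h M M' hM hM'
  exact P.not_dvd_index (((card_conj M g).symm ▸ hd).trans ⟨_, (Subgroup.relIndex_mul_index hle).symm.trans (mul_comm _ _)⟩)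

theorem c_of_d (h : IsDPiGroup π G) : IsCPiGroup π G :=
  ⟨e_of_d h, fun _ _ h1 h2 => h _ _ (maximal_of_hall h1) (maximal_of_hall h2)⟩

theorem d_of_all (h : ∀ p : ℕ, p.Prime → p ∣ Nat.card G → p ∈ π) : IsDPiGroup π G := by
  intro H K hH hK
  have htop : IsPiSubgroup π (⊤ : Subgroup G) := fun p hp hd => h p hp (Subgroup.card_top (G := G) ▸ hd)
  have e1 : H = ⊤ := eq_top_iff.2 (hH.2 htop le_top)
  have e2 : K = ⊤ := eq_top_iff.2 (hK.2 htop le_top)
  refine ⟨1, ?_⟩
  rw [e1, e2]
  exact (Subgroup.map_top_of_surjective _ (MulAut.conj (1 : G)).surjective).symm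

theorem d_of_one (h : ∀ r s : ℕ, r.Prime → s.Prime → r ∈ π → s ∈ π → r ∣ Nat.card G → s ∣ Nat.card G → r = s) :
    IsDPiGroup π G := by
  intro H K hH hK
  by_cases hex : ∃ p : ℕ, p.Prime ∧ p ∈ π ∧ p ∣ Nat.card G
  · obtain ⟨p, hp, hπ, hd⟩ := hex
    have := Fact.mk hp
    have key : ∀ M : Subgroup G, Maximal (IsPiSubgroup π) M → ∃ P : Sylow p G, M = P := by
      intro M hM
      have hM' : IsPGroup p M := IsPGroup.of_card (n := (Nat.card M).factorization p)
        (Nat.eq_pow_of_factorization_eq_single Nat.card_pos.ne' (by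
          ext q
          by_cases hq : q = p
          · subst hq; simp
          · rw [Finsupp.single_eq_of_ne hq]
            by_contra hne
            have hq' : q.Prime := Nat.prime_of_mem_primeFactors (Finsupp.mem_support_iff.2 hne)
            have hqd : q ∣ Nat.card M := Nat.dvd_of_factorization_pos hne
            exact hq (h q p hq' hp (hM.1 q hq' hqd) hπ (hqd.trans M.card_subgroup_dvd_card) hd)))
      obtain ⟨P, hP⟩ := hM'.exists_le_sylow
      refine ⟨P, le_antisymm hP (hM.2 (fun q hq hd' => ?_) hP)⟩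
      obtain ⟨n, hn⟩ := P.2.exists_card_eq
      rw [hn] at hd'
      rwa [(Nat.prime_dvd_prime_iff_eq hq hp).1 (hq.dvd_of_dvd_pow hd')]
    obtain ⟨P, rfl⟩ := key H hH
    obtain ⟨Q, rfl⟩ := key K hK
    obtain ⟨g, hg⟩ := MulAction.exists_smul_eq G P Q
    exact ⟨g, by rw [← hg]; rfl⟩
  · push Not at hex
    have key : ∀ M : Subgroup G, IsPiSubgroup π M → M = ⊥ := fun M hM => by
      refine Subgroup.eq_bot_of_card_eq M (Nat.eq_one_iff_not_exists_prime_dvd.2 fun q hq hd => ?_)
      exact hex q hq (hM q hq hd) (hd.trans M.card_subgroup_dvd_card)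
    exact ⟨1, by rw [key H hH.1, key K hK.1, Subgroup.map_bot]⟩

end Cfsg.Agent.HallSymShape
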