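import Cfsg.Agent.HallSymShape.Classes
import Cfsg.Agent.HallSymShape.General
import Cfsg.Agent.S2538

/-!
Conjugacy of Hall subgroups of symmetric and alternating groups.
-/

set_option autoImplicit false

namespace Cfsg.Agent.HallSymShape

open Cfsg Equiv Equiv.Perm

variable {n : ℕ} {π : Set ℕ}

theorem prime_le_of_dvd_perm {p : ℕ} (hp : p.Prime) {G : Subgroup (Perm (Fin n))} (h : p ∣ Nat.card G) : p ≤ n := by
  have h1 := h.trans G.card_subgroup_dvd_card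
  rw [Nat.card_perm, Nat.card_eq_fintype_card, Fintype.card_fin] at h1
  exact hp.dvd_factorial.1 h1

theorem prime_le_of_dvd_all {p : ℕ} (hp : p.Prime) (h : p ∣ Nat.card (Perm (Fin n))) : p ≤ n := by
  rw [Nat.card_perm, Nat.card_eq_fintype_card, Fintype.card_fin] at h
  exact hp.dvd_factorial.1 h

theorem structure_fin {H : Subgroup (Perm (Fin n))} (hH : IsPiHall π H)
    (h2 : ∃ p q : ℕ, p.Prime ∧ q.Prime ∧ p ≠ q ∧ p ∈ π ∧ q ∈ π ∧ p ≤ n ∧ q ≤ n)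
    (hns : ∃ p : ℕ, p.Prime ∧ p ≤ n ∧ p ∉ π) :
    ∃ (r R : ℕ) (Δ : Finset (Fin n)), r.Prime ∧ 5 ≤ r ∧ r ≤ n ∧ r ∉ π ∧
      (∀ t : ℕ, t.Prime → t ≤ n → (t ∈ π ↔ t < r)) ∧ Δ.card = r - 1 ∧ n = r - 1 + R ∧
      0 < R ∧ ((R < r - 1 ∧ ∀ t : ℕ, t.Prime → t < r → ¬ t ∣ (r - 1 + R).choose R) ∨ (R = 4 ∧ r = 5)) ∧
      ∀ g, g ∈ H ↔ Pres Δ g := by
  obtain ⟨p, q, hp, hq, hne, hpπ, hqπ, hpn, hqn⟩ := h2
  obtain ⟨ℓ, hℓ, hℓn, hℓπ⟩ := hns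
  rcases Nat.lt_or_gt_of_ne hne with h | h
  · simpa using structure_thm hH.1 hH.2 hp hq h hpπ hqπ (by simpa) hℓ (by simpa) hℓπ
  · simpa using structure_thm hH.1 hH.2 hq hp h hqπ hpπ (by simpa) hℓ (by simpa) hℓπ

theorem conj_iff {Δ : Finset (Fin n)} {Δ' : Finset (Fin n)} {g h : Perm (Fin n)}
    (hg : ∀ x, x ∈ Δ ↔ g x ∈ Δ') (hh : Pres Δ h) : Pres Δ' (g * h * g⁻¹) := fun x y hxy => by
  have e : ∀ z, z ∈ Δ' ↔ g⁻¹ z ∈ Δ := fun z => by rw [hg, show g (g⁻¹ z) = z from g.apply_symm_apply z]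
  rw [e x, e y] at hxy
  simp only [Equiv.Perm.mul_apply]
  rw [← hg, ← hg]
  exact hh _ _ hxy

theorem c_perm_main (h2 : ∃ p q : ℕ, p.Prime ∧ q.Prime ∧ p ≠ q ∧ p ∈ π ∧ q ∈ π ∧ p ≤ n ∧ q ≤ n)
    (hns : ∃ p : ℕ, p.Prime ∧ p ≤ n ∧ p ∉ π) {H K : Subgroup (Perm (Fin n))} (hH : IsPiHall π H) (hK : IsPiHall π K) :
    ∃ g, K = H.map (MulAut.conj g).toMonoidHom ∧ Equiv.Perm.sign g = 1 := by
  classical
  obtain ⟨r, R, Δ, hr, hr5, hrn, hrπ, hset, hΔ, hn, hR, -, hmem⟩ := structure_fin hH h2 hns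
  obtain ⟨r', R', Δ', hr', -, hrn', hrπ', hset', hΔ', -, -, -, hmem'⟩ := structure_fin hK h2 hns
  have hrr : r = r' := by
    rcases Nat.lt_trichotomy r r' with h | h | h
    · exact absurd ((hset' r hr hrn).2 h) hrπ
    · exact h
    · exact absurd ((hset r' hr' hrn').2 h) hrπ'
  obtain ⟨e⟩ : Nonempty ({x // x ∈ Δ} ≃ {x // x ∈ Δ'}) := ⟨Fintype.equivOfCardEq (by simp [hΔ, hΔ', hrr])⟩
  set g₀ : Perm (Fin n) := e.extendSubtype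
  have hg₀ : ∀ x, x ∈ Δ ↔ g₀ x ∈ Δ' := fun x => by
    by_cases hx : x ∈ Δ
    · exact iff_of_true hx (e.extendSubtype_mem x hx)
    · exact iff_of_false hx (e.extendSubtype_not_mem x hx)
  obtain ⟨x, hx, y, hy, hxy⟩ := Finset.one_lt_card.1 (show 1 < Δ.card by omega)
  obtain ⟨g, hg, hs⟩ : ∃ g : Perm (Fin n), (∀ z, z ∈ Δ ↔ g z ∈ Δ') ∧ Equiv.Perm.sign g = 1 := by
    rcases Int.units_eq_one_or (Equiv.Perm.sign g₀) with h | h
    · exact ⟨g₀, hg₀, h⟩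
    · refine ⟨g₀ * Equiv.swap x y, fun z => ?_, by rw [map_mul, h, Equiv.Perm.sign_swap hxy]; rfl⟩
      rw [Equiv.Perm.mul_apply, ← hg₀]
      rcases eq_or_ne z x with rfl | hzx
      · rw [Equiv.swap_apply_left]; exact iff_of_true hx hy
      rcases eq_or_ne z y with rfl | hzy
      · rw [Equiv.swap_apply_right]; exact iff_of_true hy hx
      rw [Equiv.swap_apply_of_ne_of_ne hzx hzy]
  refine ⟨g, ?_, hs⟩
  ext k
  rw [Subgroup.mem_map, hmem']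
  constructor
  · intro hk
    refine ⟨g⁻¹ * k * g, (hmem _).2 ?_, by simp [mul_assoc]⟩
    have := conj_iff (g := g⁻¹) (fun z => by rw [hg, show g (g⁻¹ z) = z from g.apply_symm_apply z]) hk
    rwa [inv_inv] at this
  · rintro ⟨h, hh, rfl⟩
    exact conj_iff hg ((hmem h).1 hh)

theorem c_alt_main (h2 : ∃ p q : ℕ, p.Prime ∧ q.Prime ∧ p ≠ q ∧ p ∈ π ∧ q ∈ π ∧ p ≤ n ∧ q ≤ n)
    (hns : ∃ p : ℕ, p.Prime ∧ p ≤ n ∧ p ∉ π) {M N : Subgroup ↥(alternatingGroup (Fin n))}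
    (hM : IsPiHall π M) (hN : IsPiHall π N) : ∃ g, N = M.map (MulAut.conj g).toMonoidHom := by
  obtain ⟨H, hH, rfl⟩ := (S2538.result n π M).1 hM
  obtain ⟨K, hK, rfl⟩ := (S2538.result n π N).1 hN
  obtain ⟨g, hKH, hg⟩ := c_perm_main h2 hns hH hK
  refine ⟨⟨g, hg⟩, ?_⟩
  ext x
  rw [Subgroup.mem_subgroupOf, hKH, Subgroup.mem_map, Subgroup.mem_map]
  constructor
  · rintro ⟨h, hh, he⟩
    have hev : h ∈ alternatingGroup (Fin n) := by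
      have h3 : Equiv.Perm.sign (g * h * g⁻¹) = 1 := by
        rw [show g * h * g⁻¹ = (x : Perm (Fin n)) from he]; exact x.2
      rw [map_mul, map_mul, map_inv, hg] at h3
      simpa [Equiv.Perm.mem_alternatingGroup] using h3
    exact ⟨⟨h, hev⟩, hh, Subtype.ext he⟩
  · rintro ⟨h, hh, rfl⟩
    exact ⟨h.1, hh, rfl⟩

theorem many_or_few (n : ℕ) (π : Set ℕ) :
    (∀ r s : ℕ, r.Prime → s.Prime → r ∈ π → s ∈ π → r ≤ n → s ≤ n → r = s) ∨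
    (∀ r : ℕ, r.Prime → r ≤ n → r ∈ π) ∨
    ((∃ p q : ℕ, p.Prime ∧ q.Prime ∧ p ≠ q ∧ p ∈ π ∧ q ∈ π ∧ p ≤ n ∧ q ≤ n) ∧ ∃ p : ℕ, p.Prime ∧ p ≤ n ∧ p ∉ π) := by
  by_cases h1 : ∃ p q : ℕ, p.Prime ∧ q.Prime ∧ p ≠ q ∧ p ∈ π ∧ q ∈ π ∧ p ≤ n ∧ q ≤ n
  · by_cases h2 : ∃ p : ℕ, p.Prime ∧ p ≤ n ∧ p ∉ π
    · exact Or.inr (Or.inr ⟨h1, h2⟩)
    · push Not at h2
      exact Or.inr (Or.inl h2)
  · push Not at h1
    refine Or.inl fun r s hr hs hrπ hsπ hrn hsn => ?_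
    by_contra hne
    have := h1 r s hr hs hne hrπ hsπ hrn
    omega

theorem prime_le_of_dvd_alt {p : ℕ} (hp : p.Prime) (h : p ∣ Nat.card ↥(alternatingGroup (Fin n))) : p ≤ n :=
  prime_le_of_dvd_perm hp h

theorem c_perm (h : IsEPiGroup π (Perm (Fin n))) : IsCPiGroup π (Perm (Fin n)) := by
  rcases many_or_few n π with hf | hf | ⟨h2, hns⟩
  · exact c_of_d (d_of_one fun r s hr hs a b c d => hf r s hr hs a b (prime_le_of_dvd_all hr c) (prime_le_of_dvd_all hs d))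
  · exact c_of_d (d_of_all fun r hr c => hf r hr (prime_le_of_dvd_all hr c))
  · refine ⟨h, fun H K hH hK => ?_⟩
    obtain ⟨g, hg, -⟩ := c_perm_main h2 hns hH hK
    exact ⟨g, hg⟩

theorem c_alt (h : IsEPiGroup π ↥(alternatingGroup (Fin n))) : IsCPiGroup π ↥(alternatingGroup (Fin n)) := by
  rcases many_or_few n π with hf | hf | ⟨h2, hns⟩
  · exact c_of_d (d_of_one fun r s hr hs a b c d => hf r s hr hs a b (prime_le_of_dvd_alt hr c) (prime_le_of_dvd_alt hs d))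
  · exact c_of_d (d_of_all fun r hr c => hf r hr (prime_le_of_dvd_alt hr c))
  · exact ⟨h, fun M N hM hN => c_alt_main h2 hns hM hN⟩

theorem e_iff : IsEPiGroup π (Perm (Fin n)) ↔ IsEPiGroup π ↥(alternatingGroup (Fin n)) :=
  ⟨fun ⟨H, hH⟩ => ⟨_, (S2538.result n π _).2 ⟨H, hH, rfl⟩⟩, fun ⟨M, hM⟩ => by
    obtain ⟨H, hH, -⟩ := (S2538.result n π M).1 hM
    exact ⟨H, hH⟩⟩

end Cfsg.Agent.HallSymShape
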