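import Cfsg.Agent.HallSymShape.Conj

/-!
The nonstandard Hall subgroups of symmetric groups.
-/

set_option autoImplicit false

namespace Cfsg.Agent.HallSymShape

open Cfsg Equiv Equiv.Perm

variable {π : Set ℕ}

theorem hall_of_index {α : Type*} [Fintype α] (H : Subgroup (Perm α)) {a i : ℕ}
    (hH : Nat.card H = a) (hi : a * i = (Fintype.card α).factorial)
    (ha : ∀ p : ℕ, p.Prime → p ∣ a → p ∈ π) (hi' : ∀ p : ℕ, p.Prime → p ∈ π → ¬ p ∣ i) : IsPiHall π H := by
  have hne : a ≠ 0 := hH ▸ Nat.card_pos.ne'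
  have h1 : H.index = i := by
    have h := Subgroup.card_mul_index H
    rw [hH, Nat.card_perm, Nat.card_eq_fintype_card, ← hi] at h
    exact Nat.eq_of_mul_eq_mul_left (by omega) h
  exact ⟨fun p hp hd => ha p hp (hH ▸ hd), fun p hp hpπ => h1 ▸ hi' p hp hpπ⟩

theorem hall_transfer {α β : Type*} [Finite α] [Finite β] (e : α ≃ β) {H : Subgroup (Perm α)} (hH : IsPiHall π H) :
    IsPiHall π (H.map e.permCongrHom.toMonoidHom) := by
  refine ⟨fun p hp hd => hH.1 p hp ?_, fun p hp hpπ => ?_⟩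
  · rwa [Nat.card_congr (H.equivMapOfInjective e.permCongrHom.toMonoidHom e.permCongrHom.injective).toEquiv.symm] at hd
  · rw [Subgroup.index_map_of_bijective e.permCongrHom.bijective]
    exact hH.2 p hp hpπ

theorem exists_prime_degree {n : ℕ} (hn : n.Prime) (hπ : ∀ t : ℕ, t.Prime → t ≤ n → (t ∈ π ↔ t < n)) :
    IsEPiGroup π (Perm (Fin n)) := by
  have : NeZero n := ⟨hn.ne_zero⟩
  refine ⟨MulAction.stabilizer (Perm (Fin n)) (0 : Fin n), hall_of_index _ rfl (i := n) ?_ ?_ ?_⟩
  · have h1 := Subgroup.card_mul_index (MulAction.stabilizer (Perm (Fin n)) (0 : Fin n))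
    rw [MulAction.index_stabilizer_of_transitive, Nat.card_perm, Nat.card_fin] at h1
    rw [Fintype.card_fin]
    exact h1
  · intro p hp hd
    have h1 := Subgroup.card_mul_index (MulAction.stabilizer (Perm (Fin n)) (0 : Fin n))
    rw [MulAction.index_stabilizer_of_transitive, Nat.card_perm, Nat.card_fin,
      ← Nat.mul_factorial_pred hn.ne_zero, mul_comm n] at h1
    rw [Nat.eq_of_mul_eq_mul_right hn.pos h1] at hd
    have h2 := hp.dvd_factorial.1 hd
    exact (hπ p hp (by omega)).2 (by have := hn.two_le; omega)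
  · intro p hp hpπ hd
    have h2 := (Nat.prime_dvd_prime_iff_eq hp hn).1 hd
    exact absurd ((hπ p hp h2.le).1 hpπ) (by omega)

/-- The permutations of a sum that preserve the partition into the two summands. -/
def partStab (β γ : Type*) : Subgroup (Perm (β ⊕ γ)) where
  carrier := {g | ∀ x y, (x.isLeft ↔ y.isLeft) ↔ ((g x).isLeft ↔ (g y).isLeft)}
  one_mem' _ _ := Iff.rfl
  mul_mem' {g h} hg hh x y := by
    simp only [Equiv.Perm.mul_apply]
    exact (hh x y).trans (hg _ _)
  inv_mem' {g} hg x y := by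
    have := hg (g⁻¹ x) (g⁻¹ y)
    simp only [show ∀ z, g (g⁻¹ z) = z from g.apply_symm_apply] at this
    exact this.symm

theorem card_partStab_four : Nat.card (partStab (Fin 4) (Fin 4)) = 1152 := by
  classical
  set K := (Equiv.Perm.sumCongrHom (Fin 4) (Fin 4)).range with hK
  set P := partStab (Fin 4) (Fin 4) with hP
  have hKP : K ≤ P := by
    rintro g ⟨⟨a, b⟩, rfl⟩ x y
    rcases x with x | x <;> rcases y with y | y <;> simp
  have hcard : Nat.card K = 576 := by
    rw [hK, Nat.card_congr (MonoidHom.ofInjective Equiv.Perm.sumCongrHom_injective).toEquiv.symm, Nat.card_prod,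
      Nat.card_perm, Nat.card_fin]
    rfl
  let σ : Perm (Fin 4 ⊕ Fin 4) := Equiv.sumComm _ _
  have hσ : σ ∈ P := fun x y => by rcases x with x | x <;> rcases y with y | y <;> simp [σ]
  have hmem : ∀ g : Perm (Fin 4 ⊕ Fin 4), g ∈ P → (g (Sum.inl 0)).isLeft → g ∈ K := fun g hg h0 => by
    refine Equiv.Perm.mem_sumCongrHom_range_of_perm_mapsTo_inl ?_
    rintro _ ⟨a, rfl⟩
    have := (hg (Sum.inl 0) (Sum.inl a)).1 (by simp)
    exact Sum.isLeft_iff.1 (this.1 h0) |>.imp fun b hb => hb.symm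
  have hrel : K.relIndex P = 2 := by
    refine Subgroup.relIndex_eq_two_iff.2 ⟨σ, hσ, fun b hb => ?_⟩
    rcases hval : (b (Sum.inl 0)).isLeft with _ | _
    · refine Or.inl ⟨?_, ?_⟩
      · refine hmem _ (mul_mem hb hσ) ?_
        have h1 := hb (Sum.inl 0) (Sum.inr 0)
        simp only [hval] at h1
        simpa [σ] using h1
      · rintro ⟨⟨a, c⟩, hac⟩
        rw [← hac] at hval
        simp at hval
    · refine Or.inr ⟨hmem b hb hval, ?_⟩
      rintro ⟨⟨a, c⟩, hac⟩
      have h1 := congrArg (fun g : Perm (Fin 4 ⊕ Fin 4) => g (Sum.inr 0)) hac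
      have h2 : (b (Sum.inl 0)).isLeft = false := by
        simp [σ] at h1
        rw [← h1]
        rfl
      rw [hval] at h2
      exact Bool.noConfusion h2
  have := Subgroup.card_mul_index (K.subgroupOf P)
  rw [Nat.card_congr (Subgroup.subgroupOfEquivOfLe hKP).toEquiv, hcard,
    show (K.subgroupOf P).index = 2 from hrel] at this
  exact this.symm

theorem exists_seven (hπ : ∀ t : ℕ, t.Prime → t ≤ 7 → (t ∈ π ↔ (t = 2 ∨ t = 3))) : IsEPiGroup π (Perm (Fin 7)) := by
  refine ⟨_, hall_transfer (finSumFinEquiv : Fin 3 ⊕ Fin 4 ≃ Fin 7)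
    (hall_of_index (Equiv.Perm.sumCongrHom (Fin 3) (Fin 4)).range (a := 144) (i := 35) ?_ (by simp only [Fintype.card_sum, Fintype.card_fin]; rfl) ?_ ?_)⟩
  · rw [Nat.card_congr (MonoidHom.ofInjective Equiv.Perm.sumCongrHom_injective).toEquiv.symm, Nat.card_prod,
      Nat.card_perm, Nat.card_perm, Nat.card_fin, Nat.card_fin]
    rfl
  · intro p hp hd
    have h1 : p ∣ 2 ^ 4 * 3 ^ 2 := hd
    rcases hp.dvd_mul.1 h1 with h | h
    · have := (Nat.prime_dvd_prime_iff_eq hp Nat.prime_two).1 (hp.dvd_of_dvd_pow h)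
      exact (hπ p hp (by omega)).2 (Or.inl this)
    · have := (Nat.prime_dvd_prime_iff_eq hp Nat.prime_three).1 (hp.dvd_of_dvd_pow h)
      exact (hπ p hp (by omega)).2 (Or.inr this)
  · intro p hp hpπ hd
    rcases hp.dvd_mul.1 (show p ∣ 5 * 7 from hd) with h | h
    · have := (Nat.prime_dvd_prime_iff_eq hp (by norm_num)).1 h
      have := (hπ p hp (by omega)).1 hpπ
      omega
    · have := (Nat.prime_dvd_prime_iff_eq hp (by norm_num)).1 h
      have := (hπ p hp (by omega)).1 hpπ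
      omega

theorem exists_eight (hπ : ∀ t : ℕ, t.Prime → t ≤ 8 → (t ∈ π ↔ (t = 2 ∨ t = 3))) : IsEPiGroup π (Perm (Fin 8)) := by
  refine ⟨_, hall_transfer (finSumFinEquiv : Fin 4 ⊕ Fin 4 ≃ Fin 8)
    (hall_of_index (partStab (Fin 4) (Fin 4)) (i := 35) card_partStab_four (by simp only [Fintype.card_sum, Fintype.card_fin]; rfl) ?_ ?_)⟩
  · intro p hp hd
    have h1 : p ∣ 2 ^ 7 * 3 ^ 2 := hd
    rcases hp.dvd_mul.1 h1 with h | h
    · have := (Nat.prime_dvd_prime_iff_eq hp Nat.prime_two).1 (hp.dvd_of_dvd_pow h)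
      exact (hπ p hp (by omega)).2 (Or.inl this)
    · have := (Nat.prime_dvd_prime_iff_eq hp Nat.prime_three).1 (hp.dvd_of_dvd_pow h)
      exact (hπ p hp (by omega)).2 (Or.inr this)
  · intro p hp hpπ hd
    rcases hp.dvd_mul.1 (show p ∣ 5 * 7 from hd) with h | h
    · have := (Nat.prime_dvd_prime_iff_eq hp (by norm_num)).1 h
      have := (hπ p hp (by omega)).1 hpπ
      omega
    · have := (Nat.prime_dvd_prime_iff_eq hp (by norm_num)).1 h
      have := (hπ p hp (by omega)).1 hpπ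
      omega

end Cfsg.Agent.HallSymShape
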