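import Cfsg.Agent.HallSymShape.Conj

/-!
Alternating groups with nonstandard Hall subgroups do not satisfy the full analogue of Sylow's theorems.
-/

set_option autoImplicit false

namespace Cfsg.Agent.HallSymShape

open Cfsg Equiv Equiv.Perm

theorem Pres.inv_iff {α : Type*} [Fintype α] [DecidableEq α] {Δ : Finset α} {g : Perm α} (hg : Pres Δ g)
    (hne : 2 * Δ.card ≠ Fintype.card α) (x : α) : x ∈ Δ ↔ g x ∈ Δ := by
  by_contra hx
  have hsub : ∀ y, y ∈ Δ ↔ ¬ g y ∈ Δ := by
    intro y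
    have h1 := hg x y
    by_cases h : (x ∈ Δ ↔ y ∈ Δ)
    · have := h1 h
      tauto
    · -- `y` lies on the other side, so its image does too
      by_contra h3
      have h5 : (g x ∈ Δ ↔ g y ∈ Δ) := by tauto
      by_cases hin : g x ∈ Δ
      · have hall : ∀ z, g z ∈ Δ := fun z => by
          by_cases hz : (x ∈ Δ ↔ z ∈ Δ)
          · exact (hg x z hz).1 hin
          · exact (hg y z (by tauto)).1 (h5.1 hin)
        obtain ⟨w, hw⟩ : ∃ w, w ∉ Δ := by
          by_contra hc
          push Not at hc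
          exact h (iff_of_true (hc x) (hc y))
        exact hw (by simpa using hall (g⁻¹ w))
      · have hall : ∀ z, g z ∉ Δ := fun z => by
          by_cases hz : (x ∈ Δ ↔ z ∈ Δ)
          · exact fun e => hin ((hg x z hz).2 e)
          · exact fun e => hin (h5.2 ((hg y z (by tauto)).2 e))
        obtain ⟨w, hw⟩ : ∃ w, w ∈ Δ := by
          by_contra hc
          push Not at hc
          exact h (iff_of_false (hc x) (hc y))
        exact hall (g⁻¹ w) (by simpa using hw)
  apply hne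
  have himg : Δ.image g = Δᶜ := by
    ext z
    rw [Finset.mem_compl, Finset.mem_image]
    constructor
    · rintro ⟨y, hy, rfl⟩
      exact (hsub y).1 hy
    · intro hz
      exact ⟨g⁻¹ z, (hsub _).2 (by simpa using hz), by simp⟩
  have hcard := Finset.card_image_of_injective Δ g.injective
  rw [himg, Finset.card_compl] at hcard
  have := Finset.card_le_univ Δ
  omega

variable {n : ℕ} {π : Set ℕ}

/-- The even permutations preserving a set. -/
def setStab (S : Finset (Fin n)) : Subgroup ↥(alternatingGroup (Fin n)) where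
  carrier := {g | ∀ x, x ∈ S ↔ (g : Perm (Fin n)) x ∈ S}
  mul_mem' {g k} hg hk x := (hk x).trans (hg _)
  one_mem' _ := Iff.rfl
  inv_mem' {g} hg x := by
    have h := hg (((g⁻¹ : ↥(alternatingGroup (Fin n))) : Perm (Fin n)) x)
    simpa using h.symm

theorem prime_le_of_dvd_setStab {S : Finset (Fin n)} {t : ℕ} (ht : t.Prime) (hd : t ∣ Nat.card (setStab S)) :
    t ≤ max S.card (n - S.card) := by
  classical
  let f : Fin n → Bool := fun x => decide (x ∈ S)
  let W : Subgroup (Perm (Fin n)) :=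
    { carrier := {g | f ∘ g = f}
      mul_mem' := fun {g k} hg hk => funext fun x => by
        have h1 := congrFun hg (k x)
        have h2 := congrFun hk x
        simp only [Function.comp_apply] at h1 h2 ⊢
        rw [Equiv.Perm.mul_apply, h1, h2]
      one_mem' := rfl
      inv_mem' := fun {g} hg => funext fun x => by
        have h1 := congrFun hg (g⁻¹ x)
        simp only [Function.comp_apply] at h1 ⊢
        rw [← h1]
        simp }
  have h1 : (setStab S).map (alternatingGroup (Fin n)).subtype ≤ W := by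
    rintro _ ⟨g, hg, rfl⟩
    refine funext fun x => ?_
    exact decide_eq_decide.2 (hg x).symm
  have h2 := hd.trans ((Subgroup.card_map_of_injective (Subgroup.subtype_injective (alternatingGroup (Fin n))))
    ▸ Subgroup.card_dvd_of_le h1 : Nat.card (setStab S) ∣ Nat.card W)
  have h3 : Nat.card W = ∏ b, (Fintype.card {x // f x = b}).factorial := by
    show Nat.card {g : Perm (Fin n) // f ∘ g = f} = _
    rw [Nat.card_eq_fintype_card, DomMulAct.stabilizer_card]
  rw [h3, Fintype.prod_bool, ht.dvd_mul, ht.dvd_factorial, ht.dvd_factorial] at h2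
  have e1 : Fintype.card {x // f x = true} = S.card := by simp [f]
  have e2 : Fintype.card {x // f x = false} = n - S.card := by simp [f, Fintype.card_subtype_compl]
  omega

theorem setStab_trans {S : Finset (Fin n)} (h1 : 2 ≤ S.card) (h2 : 2 ≤ Sᶜ.card) {x y : Fin n} (hxy : x ∈ S ↔ y ∈ S) :
    ∃ g ∈ setStab S, (g : Perm (Fin n)) x = y := by
  rcases eq_or_ne x y with rfl | hne
  · exact ⟨1, one_mem _, rfl⟩
  obtain ⟨u, v, hu, huv, hux, huy, hvx, hvy⟩ : ∃ u v, (u ∈ S ↔ v ∈ S) ∧ u ≠ v ∧ u ≠ x ∧ u ≠ y ∧ v ≠ x ∧ v ≠ y := by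
    by_cases hx : x ∈ S
    · obtain ⟨u, hu, v, hv, huv⟩ := Finset.one_lt_card.1 (show 1 < Sᶜ.card by omega)
      rw [Finset.mem_compl] at hu hv
      have hy := hxy.1 hx
      exact ⟨u, v, iff_of_false hu hv, huv, fun e => hu (e ▸ hx), fun e => hu (e ▸ hy), fun e => hv (e ▸ hx), fun e => hv (e ▸ hy)⟩
    · obtain ⟨u, hu, v, hv, huv⟩ := Finset.one_lt_card.1 (show 1 < S.card by omega)
      have hy : y ∉ S := fun e => hx (hxy.2 e)
      exact ⟨u, v, iff_of_true hu hv, huv, fun e => hx (e ▸ hu), fun e => hy (e ▸ hu), fun e => hx (e ▸ hv), fun e => hy (e ▸ hv)⟩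
  refine ⟨⟨Equiv.swap x y * Equiv.swap u v, by simp [hne, huv]⟩, fun z => ?_, by simp [Equiv.swap_apply_of_ne_of_ne hux.symm hvx.symm]⟩
  have key : ∀ a b, (a ∈ S ↔ b ∈ S) → ∀ w, (Equiv.swap a b w ∈ S ↔ w ∈ S) := fun a b h w => by
    rcases eq_or_ne w a with rfl | ha
    · rw [Equiv.swap_apply_left]; exact h.symm
    rcases eq_or_ne w b with rfl | hb
    · rw [Equiv.swap_apply_right]; exact h
    rw [Equiv.swap_apply_of_ne_of_ne ha hb]
  simp only [Equiv.Perm.mul_apply]
  rw [key x y hxy, key u v hu]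

/-- The pairs from four points. -/
abbrev Pairs : Type := {s : Finset (Fin 4) // s.card = 2}

/-- The action on pairs. -/
def pairHom : Perm (Fin 4) →* Perm Pairs where
  toFun g :=
    { toFun := fun s => ⟨s.1.image g, by rw [Finset.card_image_of_injective _ g.injective]; exact s.2⟩
      invFun := fun s => ⟨s.1.image ⇑(g⁻¹ : Perm (Fin 4)), by rw [Finset.card_image_of_injective _ (g⁻¹ : Perm (Fin 4)).injective]; exact s.2⟩
      left_inv := fun s => Subtype.ext (by simp [Finset.image_image, Function.comp_def])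
      right_inv := fun s => Subtype.ext (by simp [Finset.image_image, Function.comp_def]) }
  map_one' := Equiv.ext fun s => Subtype.ext (by simp)
  map_mul' g k := Equiv.ext fun s => Subtype.ext (by simp [Finset.image_image, Equiv.Perm.coe_mul])

set_option maxRecDepth 8000 in
theorem sign_pairHom : ∀ g : Perm (Fin 4), Equiv.Perm.sign (pairHom g) = 1 := by decide

set_option maxRecDepth 8000 in
theorem pairHom_trans : ∀ s t : Pairs, ∃ g : Perm (Fin 4), pairHom g s = t := by decide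

theorem exists_small_witness (hn : 6 < n) (hn8 : n ≤ 8) (h2 : 2 ∈ π) (h3 : 3 ∈ π) :
    ∃ K : Subgroup ↥(alternatingGroup (Fin n)), IsPiSubgroup π K ∧
      ¬ ∃ Δ : Finset (Fin n), Δ.card = 4 ∧ ∀ k ∈ K, Pres Δ (k : Perm (Fin n)) := by
  classical
  have hc : Fintype.card Pairs = 6 := by decide
  let e : Pairs ↪ Fin n := (Fintype.equivFinOfCardEq hc).toEmbedding.trans (Fin.castLEEmb hn.le)
  let φ : Perm (Fin 4) →* ↥(alternatingGroup (Fin n)) :=
    ((viaEmbeddingHom e).comp pairHom).codRestrict (alternatingGroup (Fin n)) fun g => by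
      rw [Equiv.Perm.mem_alternatingGroup]
      show Equiv.Perm.sign (viaEmbedding (pairHom g) e) = 1
      rw [viaEmbedding, Equiv.Perm.sign_extendDomain, sign_pairHom]
  refine ⟨φ.range, fun t ht hd => ?_, ?_⟩
  · have h5 : Nat.card φ.range ∣ Nat.card (Perm (Fin 4)) := Subgroup.card_range_dvd φ
    have h6 := hd.trans h5
    rw [Nat.card_perm, Nat.card_eq_fintype_card, Fintype.card_fin] at h6
    have h7 := ht.dvd_factorial.1 h6
    have := ht.two_le
    rcases (show t = 2 ∨ t = 3 ∨ t = 4 by omega) with rfl | rfl | rfl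
    · exact h2
    · exact h3
    · exact absurd ht (by norm_num)
  rintro ⟨Δ, hΔ, hp⟩
  let x₀ : Fin n := ⟨6, hn⟩
  have hx₀ : ∀ s, e s ≠ x₀ := fun s h => by
    have := congrArg Fin.val h
    simp [e, x₀] at this
    omega
  have hinv : ∀ g s, (e s ∈ Δ ↔ e (pairHom g s) ∈ Δ) := by
    intro g s
    have hfix : ∀ h : Perm (Fin 4), ((φ h : ↥(alternatingGroup (Fin n))) : Perm (Fin n)) x₀ = x₀ := fun h =>
      viaEmbedding_apply_of_notMem _ _ _ (by rintro ⟨s, hs⟩; exact hx₀ s hs)
    have happ : ∀ (h : Perm (Fin 4)) t, ((φ h : ↥(alternatingGroup (Fin n))) : Perm (Fin n)) (e t) = e (pairHom h t) :=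
      fun h t => viaEmbedding_apply _ _ t
    by_cases h : (e s ∈ Δ ↔ x₀ ∈ Δ)
    · have := hp _ ⟨g, rfl⟩ (e s) x₀ h
      rw [happ, hfix] at this
      tauto
    · by_cases h' : (e (pairHom g s) ∈ Δ ↔ x₀ ∈ Δ)
      · have := hp _ ⟨g⁻¹, rfl⟩ (e (pairHom g s)) x₀ h'
        rw [happ, hfix, map_inv, show (pairHom g)⁻¹ (pairHom g s) = s from Equiv.symm_apply_apply _ _] at this
        exact absurd this h
      · tauto
  have hs0 : Nonempty Pairs := Fintype.card_pos_iff.1 (by omega)
  obtain ⟨s₀⟩ := hs0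
  have hall : ∀ t, e t ∈ Δ ↔ e s₀ ∈ Δ := fun t => by
    obtain ⟨g, rfl⟩ := pairHom_trans s₀ t
    exact (hinv g s₀).symm
  have himg : (Finset.univ.image e).card = 6 := by
    rw [Finset.card_image_of_injective _ e.injective, Finset.card_univ, hc]
  by_cases hin : e s₀ ∈ Δ
  · have := Finset.card_le_card (Finset.image_subset_iff.2 fun t _ => (hall t).2 hin : Finset.univ.image e ⊆ Δ)
    omega
  · have := Finset.card_le_card (Finset.image_subset_iff.2 fun t _ => Finset.mem_compl.2 fun h => hin ((hall t).1 h) :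
      Finset.univ.image e ⊆ Δᶜ)
    rw [himg, Finset.card_compl, Fintype.card_fin, hΔ] at this
    omega

theorem not_d_main (h2 : ∃ p q : ℕ, p.Prime ∧ q.Prime ∧ p ≠ q ∧ p ∈ π ∧ q ∈ π ∧ p ≤ n ∧ q ≤ n)
    (hns : ∃ p : ℕ, p.Prime ∧ p ≤ n ∧ p ∉ π) : ¬ IsDPiGroup π ↥(alternatingGroup (Fin n)) := by
  classical
  intro hD
  obtain ⟨M, hM⟩ := e_of_d hD
  obtain ⟨H, hH, rfl⟩ := (S2538.result n π M).1 hM
  obtain ⟨r, R, Δ, hr, hr5, hrn, hrπ, hset, hΔ, hn, hR, hcases, hmem⟩ := structure_fin hH h2 hns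
  suffices hw : ∃ K : Subgroup ↥(alternatingGroup (Fin n)), IsPiSubgroup π K ∧
      ¬ ∃ Δ' : Finset (Fin n), Δ'.card = r - 1 ∧ ∀ k ∈ K, Pres Δ' (k : Perm (Fin n)) by
    obtain ⟨K, hK, hno⟩ := hw
    obtain ⟨M', hle, hM'⟩ := exists_le_maximal_pi hK
    obtain ⟨g, rfl⟩ := hD _ _ (maximal_of_hall hM) hM'
    refine hno ⟨Δ.image (g : Perm (Fin n)), by rw [Finset.card_image_of_injective _ (g : Perm (Fin n)).injective, hΔ], fun k hk => ?_⟩
    obtain ⟨h, hh, rfl⟩ := hle hk
    exact conj_iff (fun x => ((g : Perm (Fin n)).injective.mem_finset_image).symm) ((hmem h).1 hh)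
  have hlt : ∀ t : ℕ, t.Prime → t < r → t ∈ π := fun t ht h => (hset t ht (by omega)).2 h
  have hsmall : r = 5 → 6 < n → n ≤ 8 → ∃ K : Subgroup ↥(alternatingGroup (Fin n)), IsPiSubgroup π K ∧
      ¬ ∃ Δ' : Finset (Fin n), Δ'.card = r - 1 ∧ ∀ k ∈ K, Pres Δ' (k : Perm (Fin n)) := by
    rintro rfl h6 h8
    exact exists_small_witness h6 h8 (hlt 2 Nat.prime_two (by norm_num)) (hlt 3 Nat.prime_three (by norm_num))
  rcases hcases with ⟨hRlt, hfree⟩ | ⟨hR4, hr5'⟩
  swap
  · exact hsmall hr5' (by omega) (by omega)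
  by_cases hR1 : R + 2 = r
  · have := diff_one hr hr5 hR1 hfree
    exact hsmall this (by omega) (by omega)
  obtain ⟨S, hS⟩ : ∃ S : Finset (Fin n), S.card = R + 1 := by
    obtain ⟨S, -, hS⟩ := Finset.exists_subset_card_eq (s := (Finset.univ : Finset (Fin n))) (n := R + 1) (by
      rw [Finset.card_univ, Fintype.card_fin]; omega)
    exact ⟨S, hS⟩
  have hSc : Sᶜ.card = r - 2 := by rw [Finset.card_compl, Fintype.card_fin, hS]; omega
  refine ⟨setStab S, fun t ht hd => ?_, ?_⟩
  · have := prime_le_of_dvd_setStab ht hd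
    exact hlt t ht (by omega)
  rintro ⟨Δ', hΔ', hp⟩
  have hinv : ∀ x y, (x ∈ S ↔ y ∈ S) → (x ∈ Δ' ↔ y ∈ Δ') := by
    intro x y hxy
    obtain ⟨g, hg, rfl⟩ := setStab_trans (by omega) (by omega) hxy
    exact (hp g hg).inv_iff (by rw [Fintype.card_fin]; omega) x
  obtain ⟨a, ha⟩ : S.Nonempty := Finset.card_pos.1 (by omega)
  obtain ⟨b, hb⟩ : Sᶜ.Nonempty := Finset.card_pos.1 (by omega)
  rw [Finset.mem_compl] at hb
  have h1 : ∀ x ∈ S, (x ∈ Δ' ↔ a ∈ Δ') := fun x hx => hinv x a (iff_of_true hx ha)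
  have h3 : ∀ x, x ∉ S → (x ∈ Δ' ↔ b ∈ Δ') := fun x hx => hinv x b (iff_of_false hx hb)
  by_cases ha' : a ∈ Δ' <;> by_cases hb' : b ∈ Δ'
  · have : Δ' = Finset.univ := by
      ext x; by_cases hx : x ∈ S
      · simp [(h1 x hx).2 ha']
      · simp [(h3 x hx).2 hb']
    rw [this, Finset.card_univ, Fintype.card_fin] at hΔ'
    omega
  · have : Δ' = S := by
      ext x; by_cases hx : x ∈ S
      · simp [hx, (h1 x hx).2 ha']
      · simp [hx, h3 x hx, hb']
    rw [this] at hΔ'
    omega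
  · have : Δ' = Sᶜ := by
      ext x; by_cases hx : x ∈ S
      · simp [hx, h1 x hx, ha']
      · simp [hx, (h3 x hx).2 hb']
    rw [this] at hΔ'
    omega
  · have : Δ' = ∅ := by
      ext x; by_cases hx : x ∈ S
      · simp [h1 x hx, ha']
      · simp [h3 x hx, hb']
    rw [this, Finset.card_empty] at hΔ'
    omega

theorem d_alt_iff :
    IsDPiGroup π ↥(alternatingGroup (Fin n)) ↔
      ((∀ r s : ℕ, r.Prime → s.Prime → r ∈ π → s ∈ π → r ∣ Nat.card ↥(alternatingGroup (Fin n)) → s ∣ Nat.card ↥(alternatingGroup (Fin n)) → r = s) ∨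
        ∀ r : ℕ, r.Prime → r ∣ Nat.card ↥(alternatingGroup (Fin n)) → r ∈ π) := by
  refine ⟨fun hD => ?_, fun h => h.elim d_of_one d_of_all⟩
  rcases many_or_few n π with h | h | ⟨h2, hns⟩
  · exact Or.inl fun r s hr hs a b c d => h r s hr hs a b (prime_le_of_dvd_alt hr c) (prime_le_of_dvd_alt hs d)
  · exact Or.inr fun r hr c => h r hr (prime_le_of_dvd_alt hr c)
  · exact absurd hD (not_d_main h2 hns)

end Cfsg.Agent.HallSymShape
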