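import Mathlib

/-!
The binomial coefficient `(r - 1 + R).choose R`, `0 < R < r - 1`, `r` prime, is free of the primes below `r` only
if `r - 1 + R = r` or `(r, R) = (5, 3)`.
-/

set_option autoImplicit false

namespace Cfsg.Agent.HallSymShape

variable {r R : ℕ}

theorem no_carry_mod {a b q : ℕ} (hq : q.Prime) (h : ¬ q ∣ (a + b).choose b) (e : ℕ) :
    a % q ^ e + b % q ^ e < q ^ e := by
  by_contra hc
  push Not at hc
  rcases Nat.eq_zero_or_pos e with rfl | he
  · simp [Nat.mod_one] at hc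
  apply h
  set L := Nat.log q (a + b) + e + 1 with hL
  have hf := Nat.factorization_choose hq (Nat.le_add_left b a) (b := L) (by omega)
  have hmem : e ∈ (Finset.Ico 1 L).filter (fun i => q ^ i ≤ b % q ^ i + (a + b - b) % q ^ i) :=
    Finset.mem_filter.2 ⟨Finset.mem_Ico.2 ⟨he, by omega⟩, by rw [Nat.add_sub_cancel]; omega⟩
  have hpos : 0 < ((a + b).choose b).factorization q := hf ▸ Finset.card_pos.2 ⟨e, hmem⟩
  exact Nat.dvd_of_mem_primeFactors (Nat.support_factorization _ ▸ Finsupp.mem_support_iff.2 hpos.ne')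

/-- `Free r R`: no carries below `r`. -/
def Free (r R : ℕ) : Prop := ∀ q : ℕ, q.Prime → q < r → ¬ q ∣ (r - 1 + R).choose R

theorem mod_le_low (h : Free r R) {q e i : ℕ} (hq : q.Prime) (hqr : q < r) (hd : q ^ e ∣ r + i) :
    R % q ^ e ≤ i := by
  have h1 := no_carry_mod hq (h q hq hqr) e
  obtain ⟨t, ht⟩ := hd
  set Q := q ^ e
  have hQ : 0 < Q := Nat.pow_pos hq.pos
  have h2 := Nat.div_add_mod (r - 1) Q
  have h3 := Nat.mod_lt (r - 1) hQ
  by_contra hc
  -- `r - 1 + (i + 1) = Q * t`, so the remainder of `r - 1` is at least `Q - (i + 1)`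
  have h4 : Q * ((r - 1) / Q) < Q * t := by omega
  have h5 := Nat.lt_of_mul_lt_mul_left h4
  have h6 : Q * ((r - 1) / Q + 1) ≤ Q * t := Nat.mul_le_mul_left Q h5
  rw [Nat.mul_add, mul_one] at h6
  omega

theorem mod_le_top (h : Free r R) {q e i : ℕ} (hq : q.Prime) (hqr : q < r) (hd : q ^ e ∣ r - 1 + R - i)
    (hi : i ≤ r - 1 + R) : R % q ^ e ≤ i := by
  have h1 := no_carry_mod hq (h q hq hqr) e
  obtain ⟨t, ht⟩ := hd
  set Q := q ^ e
  have h2 := Nat.div_add_mod (r - 1) Q
  have h3 := Nat.div_add_mod R Q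
  by_contra hc
  -- remainders add up to `i` modulo `Q`
  have h4 : Q * t + i = Q * ((r - 1) / Q + R / Q) + ((r - 1) % Q + R % Q) := by rw [Nat.mul_add]; omega
  rcases Nat.lt_or_ge i Q with hiQ | hiQ
  · have h5 := congrArg (· % Q) h4
    simp only [Nat.mul_add_mod, Nat.mod_eq_of_lt hiQ, Nat.mod_eq_of_lt h1] at h5
    omega
  · omega

theorem dvd_descFactorial {m i : ℕ} (hm : m ≠ 0) (hiR : i < R)
    (h : ∀ q e : ℕ, q.Prime → q ^ e ∣ m → R % q ^ e ≤ i) : m ∣ R.descFactorial (i + 1) := by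
  refine (Nat.dvd_iff_prime_pow_dvd_dvd _ _).2 fun q e hq hd => ?_
  have hj := h q e hq hd
  rw [Nat.descFactorial_eq_prod_range]
  exact (Nat.dvd_sub_mod R).trans (Finset.dvd_prod_of_mem _ (Finset.mem_range.2 (by omega)))

theorem small_prime {m : ℕ} (hm : m < 2 * r) (hnp : ¬ m.Prime) {q : ℕ} (hq : q.Prime) (hd : q ∣ m)
    (h0 : m ≠ 0) : q < r := by
  obtain ⟨t, rfl⟩ := hd
  rcases t with _ | _ | t
  · simp at h0
  · simp [hq] at hnp
  · have : q * 2 ≤ q * (t + 1 + 1) := Nat.mul_le_mul_left q (by omega)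
    omega

theorem low_dvd (h : Free r R) {i : ℕ} (hiR : i < R) (hm : r + i < 2 * r) (hr : 0 < r) (hnp : ¬ (r + i).Prime) :
    r + i ∣ R.descFactorial (i + 1) := by
  refine dvd_descFactorial (by omega) hiR fun q e hq hd => ?_
  rcases e with _ | e
  · simp [Nat.mod_one]
  exact mod_le_low h hq (small_prime hm hnp hq ((dvd_pow_self q (by omega)).trans hd) (by omega)) hd

theorem top_dvd (h : Free r R) {i : ℕ} (hiR : i < R) (hRr : R < r - 1) (hnp : ¬ (r - 1 + R - i).Prime) :
    r - 1 + R - i ∣ R.descFactorial (i + 1) := by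
  refine dvd_descFactorial (by omega) hiR fun q e hq hd => ?_
  rcases e with _ | e
  · simp [Nat.mod_one]
  exact mod_le_top h hq (small_prime (by omega) hnp hq ((dvd_pow_self q (by omega)).trans hd) (by omega)) hd (by omega)

theorem desc_two (R : ℕ) : R.descFactorial 2 = R * (R - 1) := by
  simp [Nat.descFactorial_succ, mul_comm]

theorem prime_top (hr : r.Prime) (hR : 0 < R) (hRr : R < r - 1) (h : Free r R) : (r - 1 + R).Prime := by
  by_contra hnp
  have h1 := top_dvd h (i := 0) hR hRr (by simpa using hnp)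
  simp only [Nat.sub_zero, zero_add, Nat.descFactorial_one] at h1
  have := Nat.le_of_dvd hR h1
  omega

theorem not_prime_even {m : ℕ} (h2 : 2 < m) (he : m % 2 = 0) : ¬ m.Prime := fun hp => by
  rcases hp.eq_two_or_odd with h | h <;> omega

set_option maxHeartbeats 1600000 in
theorem smooth_cases (hr : r.Prime) (hr5 : 5 ≤ r) (hR : 0 < R) (hRr : R < r - 1) (h : Free r R) :
    R = 1 ∨ (R = 3 ∧ r = 5) := by
  have hn := prime_top hr hR hRr h
  have hro : r % 2 = 1 := hr.eq_two_or_odd.resolve_left (by omega)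
  have hno : (r - 1 + R) % 2 = 1 := hn.eq_two_or_odd.resolve_left (by omega)
  by_cases h1 : R = 1
  · exact Or.inl h1
  right
  have hR3 : 3 ≤ R := by omega
  have hRo : R % 2 = 1 := by omega
  have d1 := low_dvd h (i := 1) (by omega) (by omega) hr.pos (not_prime_even (by omega) (by omega))
  have d2 := top_dvd h (i := 1) (by omega) hRr (not_prime_even (by omega) (by omega))
  rw [desc_two] at d1 d2
  rw [show r - 1 + R - 1 = r + R - 2 by omega] at d2
  by_cases hR5 : R = 3
  · subst hR5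
    norm_num at d1
    have := Nat.le_of_dvd (by norm_num) d1
    omega
  exfalso
  set g := Nat.gcd (r + 1) (r + R - 2) with hg
  set P := R * (R - 1) with hP
  have hlcm : (r + 1) * (r + R - 2) ∣ g * P := by
    rw [← Nat.gcd_mul_lcm (r + 1) (r + R - 2)]
    exact Nat.mul_dvd_mul_left _ (Nat.lcm_dvd d1 d2)
  have hg6 : g ∣ 6 := by
    have a : g ∣ R - 3 := by
      rw [show R - 3 = (r + R - 2) - (r + 1) by omega]
      exact Nat.dvd_sub (Nat.gcd_dvd_right _ _) (Nat.gcd_dvd_left _ _)
    have b : g ∣ P := (Nat.gcd_dvd_left _ _).trans d1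
    have e : P = (R - 3) * (R + 2) + 6 := by
      obtain ⟨s, hs⟩ : ∃ s, R = s + 3 := ⟨R - 3, by omega⟩
      rw [hP, hs]
      simp only [Nat.add_sub_cancel, show s + 3 - 1 = s + 2 by omega]
      ring
    exact (Nat.dvd_add_right (a.mul_right _)).1 (e ▸ b)
  obtain ⟨s, hs⟩ : ∃ s, R = s + 5 := ⟨R - 5, by omega⟩
  obtain ⟨t, ht⟩ : ∃ t, r = R + 2 + t := ⟨r - (R + 2), by omega⟩
  have hP' : P = (s + 5) * (s + 4) := by rw [hP, hs]; rfl
  have hA : (r + 1) * (r + R - 2) = (s + t + 8) * (2 * s + t + 10) := by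
    rw [show r + 1 = s + t + 8 by omega, show r + R - 2 = 2 * s + t + 10 by omega]
  have hbig : 2 * P < (r + 1) * (r + R - 2) := by rw [hA, hP']; nlinarith
  obtain ⟨k, hk⟩ := hlcm
  have hPpos : 0 < P := by rw [hP']; positivity
  have hg2 : 3 ≤ g := by
    by_contra hlt
    have h4 : g * P ≤ 2 * P := Nat.mul_le_mul_right P (by omega)
    have hgpos : 0 < g := Nat.gcd_pos_of_pos_left _ (by omega)
    rcases k with _ | k
    · rw [mul_zero] at hk; exact absurd hk (by positivity)
    · have : (r + 1) * (r + R - 2) * 1 ≤ (r + 1) * (r + R - 2) * (k + 1) := Nat.mul_le_mul_left _ (by omega)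
      omega
  have hg36 : g = 3 ∨ g = 6 := by
    have := Nat.le_of_dvd (by norm_num) hg6
    interval_cases g <;> omega
  have h3 : 3 ∣ r + 1 := by
    rcases hg36 with e | e
    · exact e ▸ Nat.gcd_dvd_left _ _
    · exact (show 3 ∣ g by rw [e]; norm_num).trans (Nat.gcd_dvd_left _ _)
  -- `k * (r + 1) * (r + R - 2) = 6 * P` with `k ≤ 2`
  obtain ⟨k, hk, hk1, hk2⟩ : ∃ k, 6 * P = (r + 1) * (r + R - 2) * k ∧ 1 ≤ k ∧ k ≤ 2 := by
    obtain ⟨c, hc⟩ := hg6
    have he : 6 * P = (r + 1) * (r + R - 2) * (k * c) := by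
      calc 6 * P = g * c * P := by rw [← hc]
        _ = g * P * c := by ring
        _ = (r + 1) * (r + R - 2) * k * c := by rw [hk]
        _ = (r + 1) * (r + R - 2) * (k * c) := mul_assoc _ _ _
    refine ⟨k * c, he, ?_, ?_⟩
    · by_contra h0
      rcases Nat.mul_eq_zero.1 (Nat.lt_one_iff.1 (not_le.1 h0)) with rfl | rfl
      · rw [mul_zero] at hk
        exact absurd hk (by rcases hg36 with e | e <;> rw [e] <;> positivity)
      · omega
    · by_contra h0
      have : (r + 1) * (r + R - 2) * 3 ≤ (r + 1) * (r + R - 2) * (k * c) := Nat.mul_le_mul_left _ (by omega)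
      omega
  rw [hA, hP'] at hk
  interval_cases k
  · -- `r = 2 R - 1`
    have hts : t = s + 2 := by
      rcases Nat.lt_trichotomy t (s + 2) with h4 | h4 | h4
      · nlinarith
      · exact h4
      · nlinarith
    have hd : r - 1 + R - 3 ∣ 20 := by
      refine (Nat.dvd_iff_prime_pow_dvd_dvd _ _).2 fun q e hq hd => ?_
      rcases e with _ | e
      · simp
      have hj := mod_le_top h hq (small_prime (by omega) (not_prime_even (by omega) (by omega)) hq
        ((dvd_pow_self q (by omega)).trans hd) (by omega)) hd (by omega)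
      generalize q ^ (e + 1) = Q at hj hd ⊢
      have e1 : (Q : ℤ) ∣ 3 * R - 5 := by
        have h9 := Int.natCast_dvd_natCast.2 hd
        have hv : r - 1 + R - 3 + 5 = 3 * R := by omega
        rwa [show ((r - 1 + R - 3 : ℕ) : ℤ) = 3 * (R : ℤ) - 5 by
          have h8 := congrArg (Nat.cast : ℕ → ℤ) hv
          push_cast at h8
          linarith] at h9
      have e2 : (Q : ℤ) ∣ (R : ℤ) - (R % Q : ℕ) := by
        rw [← Nat.cast_sub (Nat.mod_le R Q), Int.natCast_dvd_natCast]
        exact Nat.dvd_sub_mod R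
      have e3 : (Q : ℤ) ∣ 3 * ((R % Q : ℕ) : ℤ) - 5 := by
        have e4 := dvd_sub e1 (e2.mul_left 3)
        rwa [show (3 * (R : ℤ) - 5) - 3 * ((R : ℤ) - (R % Q : ℕ)) = 3 * ((R % Q : ℕ) : ℤ) - 5 by ring] at e4
      have e5 : 3 * ((R % Q : ℕ) : ℤ) - 5 ∣ 20 := by
        generalize R % Q = j at hj
        interval_cases j <;> decide
      exact_mod_cast e3.trans e5
    have := Nat.le_of_dvd (by norm_num) hd
    obtain rfl | rfl | rfl : s = 0 ∨ s = 2 ∨ s = 4 := by omega
    all_goals (subst hs hts ht; revert hr hd; norm_num)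
  · -- `(r + 1) * (r + R - 2) = 3 * R * (R - 1)`
    have hd : r + 4 ∣ 45 := by
      refine (Nat.dvd_iff_prime_pow_dvd_dvd _ _).2 fun q e hq hd => ?_
      rcases e with _ | e
      · simp
      have hnp : ¬ (r + 4).Prime := fun hp => by
        have h5 := (Nat.prime_dvd_prime_iff_eq Nat.prime_three hp).1
          (show 3 ∣ r + 1 + 3 from Nat.dvd_add h3 dvd_rfl)
        omega
      have hj := mod_le_low h hq (small_prime (by omega) hnp hq ((dvd_pow_self q (by omega)).trans hd) (by omega)) hd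
      generalize q ^ (e + 1) = Q at hj hd ⊢
      have hodd : ¬ 2 ∣ Q := fun h2 => by
        have := h2.trans hd
        omega
      have e1 : (Q : ℤ) ∣ (r : ℤ) + 4 := by exact_mod_cast hd
      have e2 : (Q : ℤ) ∣ (R : ℤ) - (R % Q : ℕ) := by
        rw [← Nat.cast_sub (Nat.mod_le R Q), Int.natCast_dvd_natCast]
        exact Nat.dvd_sub_mod R
      have heq : ((r : ℤ) + 1) * ((r : ℤ) + R - 2) = 3 * (R : ℤ) * ((R : ℤ) - 1) := by
        have hk' : ((6 * ((s + 5) * (s + 4)) : ℕ) : ℤ) = (((s + t + 8) * (2 * s + t + 10) * 2 : ℕ) : ℤ) := by rw [hk]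
        push_cast at hk'
        rw [ht, hs]
        push_cast
        linarith
      set j : ℤ := ((R % Q : ℕ) : ℤ) with hj'
      have e3 : (Q : ℤ) ∣ 18 - 3 * j ^ 2 := by
        have e4 : (18 : ℤ) - 3 * j ^ 2 = ((r : ℤ) + 4) * (-((r : ℤ) + R - 2 - 3)) + ((R : ℤ) - j) * (3 * ((R : ℤ) + j)) := by
          linear_combination heq
        rw [e4]
        exact dvd_add (e1.mul_right _) (e2.mul_right _)
      have e5 : (Q : ℤ) ∣ 180 := by
        refine e3.trans ?_
        rw [hj']
        generalize R % Q = i at hj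
        interval_cases i <;> decide
      have e6 : Q ∣ 180 := by exact_mod_cast e5
      have hcop : Nat.Coprime Q 4 :=
        (Nat.Coprime.pow_right 2 ((Nat.prime_two.coprime_iff_not_dvd.2 hodd).symm) : Nat.Coprime Q (2 ^ 2))
      exact hcop.dvd_of_dvd_mul_left (show Q ∣ 4 * 45 from e6)
    have := Nat.le_of_dvd (by norm_num) hd
    have hr45 : r = 5 ∨ r = 11 ∨ r = 41 := by
      have hmem : r + 4 ∈ Nat.divisors 45 := Nat.mem_divisors.2 ⟨hd, by norm_num⟩
      rw [show Nat.divisors 45 = {1, 3, 5, 9, 15, 45} by decide] at hmem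
      simp only [Finset.mem_insert, Finset.mem_singleton] at hmem
      omega
    rcases hr45 with rfl | rfl | rfl
    · omega
    · have : s ≤ 4 := by omega
      obtain rfl | rfl | rfl : s = 0 ∨ s = 2 ∨ s = 4 := by omega
      · omega
      · obtain rfl : t = 2 := by omega
        omega
      · subst hs
        have h16 := mod_le_top h (q := 2) (e := 4) (i := 3) Nat.prime_two (by norm_num) (by norm_num) (by norm_num)
        norm_num at h16
    · have : s ≤ 34 := by omega
      obtain rfl : t = 34 - s := by omega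
      interval_cases s <;> omega

end Cfsg.Agent.HallSymShape
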